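import Mathlib.AlgebraicGeometry.Morphisms.SchemeTheoreticallyDominant
import Mathlib.AlgebraicGeometry.Morphisms.ClosedImmersion
import Mathlib.AlgebraicGeometry.FunctionField
import Mathlib.AlgebraicGeometry.Noetherian
/-!
A closed immersion into a flat scheme over an integral scheme, which is an isomorphism over the generic point, is an
isomorphism.
-/
set_option autoImplicit false
universe u
open CategoryTheory CategoryTheory.Limits AlgebraicGeometry

namespace K265.GenIso

/-- A closed immersion through which a scheme-theoretically dominant morphism factors is an isomorphism. -/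
theorem isIso_of_factor {C P T : Scheme.{u}} (φ : C ⟶ P) [IsClosedImmersion φ] (t : T ⟶ P)
    [IsSchemeTheoreticallyDominant t] (l : T ⟶ C) (hl : l ≫ φ = t) : IsIso φ := by
  rw [IsClosedImmersion.isIso_iff_ker_eq_bot, eq_bot_iff, ← t.ker_eq_bot, ← hl]
  exact Scheme.Hom.le_ker_comp l φ

theorem isDominant_fromSpecStalk {C : Scheme.{u}} [IsIntegral C] :
    IsDominant (C.fromSpecStalk (genericPoint C)) := by
  refine ⟨?_⟩
  rw [DenseRange, dense_iff_closure_eq, Set.eq_univ_iff_forall]
  intro x
  have h1 : genericPoint C ∈ Set.range (C.fromSpecStalk (genericPoint C)) := by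
    rw [Scheme.range_fromSpecStalk]
    exact specializes_rfl
  exact (genericPoint_specializes x).mem_closed isClosed_closure (subset_closure h1)

theorem isSchDom_fromSpecStalk {C : Scheme.{u}} [IsIntegral C] :
    IsSchemeTheoreticallyDominant (C.fromSpecStalk (genericPoint C)) := by
  have := isDominant_fromSpecStalk (C := C)
  exact .of_isDominant _

theorem quasiCompact_fromSpecStalk {C : Scheme.{u}} [IsIntegral C] :
    QuasiCompact (C.fromSpecStalk (genericPoint C)) := by
  have hK : IsNoetherianRing (C.presheaf.stalk (genericPoint C)) := by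
    change IsNoetherianRing C.functionField
    infer_instance
  have : IsNoetherian (Spec (C.presheaf.stalk (genericPoint C))) := inferInstance
  infer_instance

/-- Let `i : C ⟶ S` with `C` integral, `π : P ⟶ C` flat and `φ : C' ⟶ P` a closed immersion that becomes an isomorphism after
base change along `Spec O_{S, i(η)} ⟶ S`.  Then `φ` is an isomorphism. -/
theorem isIso_of_isIso_generic {S C C' P : Scheme.{u}} [IsIntegral C] (i : C ⟶ S) (π : P ⟶ C) [Flat π]
    (φ : C' ⟶ P) [IsClosedImmersion φ]
    (h : IsIso (pullback.snd φ (pullback.fst (π ≫ i) (S.fromSpecStalk (i (genericPoint C)))))) : IsIso φ := by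
  have h1 := isSchDom_fromSpecStalk (C := C)
  have h2 := quasiCompact_fromSpecStalk (C := C)
  let t := pullback.fst π (C.fromSpecStalk (genericPoint C))
  have ht : IsSchemeTheoreticallyDominant t := inferInstance
  let m : pullback π (C.fromSpecStalk (genericPoint C)) ⟶ pullback (π ≫ i) (S.fromSpecStalk (i (genericPoint C))) :=
    pullback.lift t (pullback.snd _ _ ≫ Spec.map (i.stalkMap (genericPoint C))) (by
      rw [Category.assoc, Scheme.SpecMap_stalkMap_fromSpecStalk, ← Category.assoc, ← Category.assoc]
      rw [pullback.condition])
  have hm : m ≫ pullback.fst _ _ = t := pullback.lift_fst _ _ _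
  refine isIso_of_factor φ t (m ≫ inv (pullback.snd φ (pullback.fst (π ≫ i) (S.fromSpecStalk (i (genericPoint C)))))
    ≫ pullback.fst _ _) ?_
  rw [Category.assoc, Category.assoc, pullback.condition, IsIso.inv_hom_id_assoc, hm]

end K265.GenIso
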