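import Groth.Agent.FlatMor.K265.YTriv
import Groth.Agent.Ega2.H275.RelDesc
import Groth.Agent.Ega2.RelAmpRows
import Mathlib.AlgebraicGeometry.Morphisms.SchemeTheoreticallyDominant
/-!
Domination of two modifications with trivialisations by a third one.
-/
set_option autoImplicit false
universe u
open CategoryTheory CategoryTheory.Limits AlgebraicGeometry
open Groth.Agent.Fdesc.LocGen Groth.Agent.Ega2.Nv Groth.Agent.Ega2.RelAmp

namespace K265.YTriv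

variable {X Y Z : Scheme.{u}}

lemma eq_bot_of_map_eq_ker (i : X ⟶ Y) [IsClosedImmersion i] (I : X.IdealSheafData)
    (h : I.map i = i.ker) : I = ⊥ := by
  have h1 : IsIso I.subschemeι := by
    refine IsClosedImmersion.isIso_of_ker_eq (I.subschemeι ≫ i) i I.subschemeι rfl ?_
    exact h
  rw [← I.ker_subschemeι]
  exact Scheme.Hom.ker_eq_bot _

/-- the morphism to the scheme theoretic image is scheme-theoretically dominant -/
lemma isSchemeTheoreticallyDominant_toImage (f : X ⟶ Y) :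
    IsSchemeTheoreticallyDominant f.toImage := by
  rw [isSchemeTheoreticallyDominant_iff]
  apply eq_bot_of_map_eq_ker f.imageι
  rw [Scheme.IdealSheafData.map_ker, Scheme.Hom.toImage_imageι]
  exact (Scheme.IdealSheafData.ker_subschemeι _).symm

/-- restriction of relatively ample modules with trivialisations along affine morphisms -/
theorem exists_restrict {Y X X₁ X₂ : Scheme.{u}} (f₁ : Y ⟶ X₁) (g₁ : X₁ ⟶ X) (f₂ : Y ⟶ X₂)
    (i : X₂ ⟶ X₁) [IsAffineHom i] (h : f₂ ≫ i = f₁) {L₁ : X₁.Modules} (ε₁ : Coh.structureModule X₁ ⟶ L₁)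
    (h₁ : RelAmple.IsRelAmple g₁ L₁) (h₁' : IsIso ((Scheme.Modules.pullback f₁).map ε₁)) :
    ∃ (L : X₂.Modules) (ε : Coh.structureModule X₂ ⟶ L),
      RelAmple.IsRelAmple (i ≫ g₁) L ∧ IsIso ((Scheme.Modules.pullback f₂).map ε) := by
  have i₁ : PicF.IsInvertible L₁ := Groth.Agent.CalgB.AmpleRel.isInvertible_of_isRelAmple h₁
  refine ⟨_, pullHom i ε₁, Groth.Agent.Ega2.H275.RelDesc.isRelAmple_pullback g₁ i h₁,
    isIso_map_pullHom f₂ i i₁ _ ?_⟩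
  rwa [h]

theorem exists_dominating {Y X X₁ X₂ : Scheme.{u}} [CompactSpace X] (f : Y ⟶ X) (f₁ : Y ⟶ X₁) (g₁ : X₁ ⟶ X)
    [IsProper g₁] (f₂ : Y ⟶ X₂) (g₂ : X₂ ⟶ X) [IsProper g₂] (hf₁ : f₁ ≫ g₁ = f) (hf₂ : f₂ ≫ g₂ = f)
    {L₁ : X₁.Modules} (ε₁ : Coh.structureModule X₁ ⟶ L₁)
    (h₁ : RelAmple.IsRelAmple g₁ L₁) (h₁' : IsIso ((Scheme.Modules.pullback f₁).map ε₁))
    {L₂ : X₂.Modules} (ε₂ : Coh.structureModule X₂ ⟶ L₂) (h₂ : RelAmple.IsRelAmple g₂ L₂)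
    (h₂' : IsIso ((Scheme.Modules.pullback f₂).map ε₂)) :
    ∃ (X₃ : Scheme.{u}) (f₃ : Y ⟶ X₃) (g₃ : X₃ ⟶ X) (d₁ : X₃ ⟶ X₁) (d₂ : X₃ ⟶ X₂),
      (IsSchemeTheoreticallyDominant f₃ ∧ IsProper g₃ ∧ f₃ ≫ g₃ = f ∧
        ∃ (L : X₃.Modules) (ε : Coh.structureModule X₃ ⟶ L),
          RelAmple.IsRelAmple g₃ L ∧ IsIso ((Scheme.Modules.pullback f₃).map ε)) ∧
      f₃ ≫ d₁ = f₁ ∧ d₁ ≫ g₁ = g₃ ∧ f₃ ≫ d₂ = f₂ ∧ d₂ ≫ g₂ = g₃ := by
  have w : f₁ ≫ g₁ = f₂ ≫ g₂ := by rw [hf₁, hf₂]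
  let h : Y ⟶ pullback g₁ g₂ := pullback.lift f₁ f₂ w
  have i₁ : PicF.IsInvertible L₁ := Groth.Agent.CalgB.AmpleRel.isInvertible_of_isRelAmple h₁
  obtain ⟨L, ε, hL, hε⟩ := exists_comp f₂ g₂ h (pullback.snd g₁ g₂) (pullback.lift_snd _ _ _) ε₂ h₂ h₂'
    (pullHom (pullback.fst g₁ g₂) ε₁) (relAmple_baseChange g₁ g₂ L₁ h₁)
    (isIso_map_pullHom h (pullback.fst g₁ g₂) i₁ ε₁ (by rwa [pullback.lift_fst]))
  obtain ⟨L', ε', hL', hε'⟩ := exists_restrict h (pullback.snd g₁ g₂ ≫ g₂) h.toImage h.imageι h.toImage_imageι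
    ε hL hε
  refine ⟨h.image, h.toImage, h.imageι ≫ pullback.snd g₁ g₂ ≫ g₂, h.imageι ≫ pullback.fst g₁ g₂,
    h.imageι ≫ pullback.snd g₁ g₂, ⟨isSchemeTheoreticallyDominant_toImage h, inferInstance, ?_, L', ε', hL', hε'⟩,
    ?_, ?_, ?_, ?_⟩
  · rw [h.toImage_imageι_assoc, pullback.lift_snd_assoc, hf₂]
  · rw [h.toImage_imageι_assoc, pullback.lift_fst]
  · rw [Category.assoc, pullback.condition]
  · rw [h.toImage_imageι_assoc, pullback.lift_snd]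
  · rw [Category.assoc]

end K265.YTriv
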