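import Mathlib.AlgebraicGeometry.IdealSheaf.Subscheme
import Mathlib.AlgebraicGeometry.Morphisms.Flat
import Mathlib.RingTheory.Flat.TorsionFree
import Mathlib.AlgebraicGeometry.Morphisms.ClosedImmersion
/-!
The colon ideal sheaf `(I : a)` for a global function `a`, and flatness of the scheme-theoretic image over a
Dedekind base.
-/
set_option autoImplicit false
universe u
open CategoryTheory CategoryTheory.Limits AlgebraicGeometry

namespace K265.Colon

variable {Y : Scheme.{u}}

/-- restriction of a global function -/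
noncomputable def res (a : Γ(Y, ⊤)) (U : Y.Opens) : Γ(Y, U) := (Y.presheaf.map (homOfLE (le_top : U ≤ ⊤)).op).hom a

theorem res_res (a : Γ(Y, ⊤)) {U V : Y.Opens} (h : V ≤ U) :
    (Y.presheaf.map (homOfLE h).op).hom (res a U) = res a V := by
  unfold res
  rw [← RingHom.comp_apply, ← CommRingCat.hom_comp, ← Functor.map_comp]
  rfl

/-- The colon ideal `(I(U) : a)`. -/
noncomputable def colonIdeal (I : Y.IdealSheafData) (a : Γ(Y, ⊤)) (U : Y.affineOpens) : Ideal Γ(Y, U.1) where
  carrier := {s | res a U.1 * s ∈ I.ideal U}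
  add_mem' := fun {s t} hs ht => by
    change res a U.1 * (s + t) ∈ I.ideal U
    rw [mul_add]; exact Ideal.add_mem _ hs ht
  zero_mem' := by change res a U.1 * 0 ∈ I.ideal U; rw [mul_zero]; exact Ideal.zero_mem _
  smul_mem' := fun c s hs => by
    change res a U.1 * (c • s) ∈ I.ideal U
    rw [smul_eq_mul, mul_left_comm]; exact Ideal.mul_mem_left _ _ hs

theorem mem_colonIdeal {I : Y.IdealSheafData} {a : Γ(Y, ⊤)} {U : Y.affineOpens} {s : Γ(Y, U.1)} :
    s ∈ colonIdeal I a U ↔ res a U.1 * s ∈ I.ideal U := Iff.rfl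

theorem map_colonIdeal (I : Y.IdealSheafData) (a : Γ(Y, ⊤)) (U : Y.affineOpens) (f : Γ(Y, U.1)) :
    (colonIdeal I a U).map (Y.presheaf.map (homOfLE (Y.basicOpen_le f)).op).hom =
      colonIdeal I a (Y.affineBasicOpen f) := by
  apply le_antisymm
  · refine Ideal.map_le_iff_le_comap.mpr ?_
    intro s hs
    change res a (Y.basicOpen f) * (Y.presheaf.map (homOfLE (Y.basicOpen_le f)).op).hom s ∈
      I.ideal (Y.affineBasicOpen f)
    rw [← res_res a (Y.basicOpen_le f), ← map_mul, ← I.map_ideal_basicOpen U f]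
    exact Ideal.mem_map_of_mem _ hs
  · intro t ht
    change res a (Y.basicOpen f) * t ∈ I.ideal (Y.affineBasicOpen f) at ht
    rw [← I.map_ideal_basicOpen U f, ← res_res a (Y.basicOpen_le f)] at ht
    let _ := (Y.presheaf.map (homOfLE (Y.basicOpen_le f)).op).hom.toAlgebra
    have hloc : IsLocalization.Away f Γ(Y, Y.basicOpen f) := U.2.isLocalization_basicOpen f
    obtain ⟨s, m, rfl⟩ := IsLocalization.exists_mk'_eq (Submonoid.powers f) t
    change _ ∈ Ideal.map (algebraMap Γ(Y, U.1) Γ(Y, Y.basicOpen f)) _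
    refine (IsLocalization.mk'_mem_map_algebraMap_iff (Submonoid.powers f) _ _ s m).mpr ?_
    change algebraMap Γ(Y, U.1) Γ(Y, Y.basicOpen f) (res a U.1) * _ ∈
      Ideal.map (algebraMap Γ(Y, U.1) Γ(Y, Y.basicOpen f)) _ at ht
    rw [← IsLocalization.mk'_one (M := Submonoid.powers f), ← IsLocalization.mk'_mul, one_mul,
      IsLocalization.mk'_mem_map_algebraMap_iff] at ht
    obtain ⟨k, hk, h⟩ := ht
    refine ⟨k, hk, ?_⟩
    change res a U.1 * (k * s) ∈ I.ideal U
    rwa [mul_left_comm]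

/-- The colon ideal sheaf `(I : a)`. -/
noncomputable def colon (I : Y.IdealSheafData) (a : Γ(Y, ⊤)) : Y.IdealSheafData where
  ideal U := colonIdeal I a U
  map_ideal_basicOpen := fun U f => map_colonIdeal I a U f

theorem mem_colon {I : Y.IdealSheafData} {a : Γ(Y, ⊤)} {U : Y.affineOpens} {s : Γ(Y, U.1)} :
    s ∈ (colon I a).ideal U ↔ res a U.1 * s ∈ I.ideal U := Iff.rfl

/-- If multiplication by `f^# a` is injective on the sections of `X` then multiplication by `a` is injective modulo `ker f`. -/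
theorem mem_ker_of_mul_mem {X : Scheme.{u}} (f : X ⟶ Y) (a : Γ(Y, ⊤))
    (ha : ∀ (V : X.Opens) (s : Γ(X, V)), res (f.appTop.hom a) V * s = 0 → s = 0)
    (U : Y.affineOpens) (s : Γ(Y, U.1)) (h : res a U.1 * s ∈ f.ker.ideal U) : s ∈ f.ker.ideal U := by
  have hle : colon f.ker a ≤ f.ker := by
    refine Scheme.IdealSheafData.le_ofIdeals_iff.mpr fun U s hs => ?_
    have h1 : res a U.1 * s ∈ RingHom.ker (f.app U.1).hom := f.ideal_ker_le U hs
    rw [RingHom.mem_ker, map_mul] at h1
    rw [RingHom.mem_ker]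
    apply ha
    have h2 : (f.app U.1).hom (res a U.1) = res (f.appTop.hom a) (f ⁻¹ᵁ U.1) := by
      unfold res
      have := ConcreteCategory.congr_hom (f.naturality (homOfLE (le_top : U.1 ≤ ⊤)).op) a
      exact this
    rw [← h2]; exact h1
  exact hle U h

end K265.Colon

namespace K265.Colon

/-- Multiplication by a nonzero element of a Dedekind domain (indeed of any domain) is injective on the sections of
a flat scheme. -/
theorem eq_zero_of_flat {R : Type u} [CommRing R] [IsDomain R] {X : Scheme.{u}}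
    (p : X ⟶ Spec (CommRingCat.of R)) [Flat p] (r : R) (hr : r ≠ 0) (V : X.Opens) (s : Γ(X, V))
    (h : res (p.appTop.hom ((Scheme.ΓSpecIso (CommRingCat.of R)).inv.hom r)) V * s = 0) : s = 0 := by
  refine X.IsSheaf.section_ext fun x hx ↦ ?_
  obtain ⟨_, ⟨W, hW, rfl⟩, hxW, hWV : W ≤ V⟩ :=
    X.isBasis_affineOpens.exists_subset_of_mem_open hx V.isOpen
  refine ⟨W, hWV, hxW, ?_⟩
  have hfl : (p.appLE ⊤ W le_top).hom.Flat := Flat.flat_appLE p (isAffineOpen_top _) hW _
  rw [map_zero]
  have h1 : (p.appLE ⊤ W le_top).hom ((Scheme.ΓSpecIso (CommRingCat.of R)).inv.hom r) *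
      (X.presheaf.map (homOfLE hWV).op).hom s = 0 := by
    have h2 := congrArg (X.presheaf.map (homOfLE hWV).op).hom h
    rw [map_mul, res_res, map_zero] at h2
    exact h2
  algebraize [(p.appLE ⊤ W le_top).hom]
  have hF : Module.Flat Γ(Spec (CommRingCat.of R), ⊤) Γ(X, W) := hfl
  have hreg : IsRegular ((Scheme.ΓSpecIso (CommRingCat.of R)).inv.hom r) := by
    have : IsDomain Γ(Spec (CommRingCat.of R), ⊤) :=
      (Scheme.ΓSpecIso (CommRingCat.of R)).commRingCatIsoToRingEquiv.toMulEquiv.isDomain _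
    refine IsRegular.of_ne_zero ?_
    intro h0
    apply hr
    exact (Scheme.ΓSpecIso (CommRingCat.of R)).symm.commRingCatIsoToRingEquiv.injective (by rw [map_zero]; exact h0)
  have := Module.Flat.isSMulRegular_of_isRegular (M := Γ(X, W)) hreg
  apply this
  simp only [Algebra.smul_def, mul_zero]
  exact h1

/-- The scheme-theoretic image of a flat scheme over a Dedekind base is flat. -/
theorem flat_imageι {R : Type u} [CommRing R] [IsDedekindDomain R] {X Y : Scheme.{u}}
    (q : Y ⟶ Spec (CommRingCat.of R)) (f : X ⟶ Y) [Flat (f ≫ q)] : Flat (f.imageι ≫ q) := by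
  have key : ∀ (V : Y.affineOpens) (r : R), r ≠ 0 → ∀ s : Γ(Y, V.1),
      res (q.appTop.hom ((Scheme.ΓSpecIso (CommRingCat.of R)).inv.hom r)) V.1 * s ∈ f.ker.ideal V → s ∈ f.ker.ideal V := by
    intro V r hr s hs
    refine mem_ker_of_mul_mem f _ (fun W t ht => ?_) V s hs
    refine eq_zero_of_flat (f ≫ q) r hr W t ?_
    rw [Scheme.Hom.comp_appTop]
    exact ht
  let U : Y.affineOpens → f.image.affineOpens := fun V => ⟨f.imageι ⁻¹ᵁ V.1, V.2.preimage _⟩
  have hU : (⨆ i, (U i : f.image.Opens)) = ⊤ := by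
    change (⨆ i : Y.affineOpens, f.imageι ⁻¹ᵁ i.1) = ⊤
    rw [← Scheme.Hom.preimage_iSup, iSup_affineOpens_eq_top]
    rfl
  refine HasRingHomProperty.of_iSup_eq_top (P := @Flat) U hU (fun V => ?_)
  let e := (Scheme.ΓSpecIso (CommRingCat.of R)).symm.commRingCatIsoToRingEquiv
  set φ := ((f.imageι ≫ q).appLE ⊤ (U V).1 le_top).hom with hφ
  have h1 : φ.Flat ↔ (φ.comp e.toRingHom).Flat := by
    refine ⟨fun h => RingHom.Flat.comp (RingHom.Flat.of_bijective e.bijective) h, fun h => ?_⟩
    have : φ = (φ.comp e.toRingHom).comp e.symm.toRingHom := by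
      ext x; simp
    rw [this]
    exact RingHom.Flat.comp (RingHom.Flat.of_bijective e.symm.bijective) h
  rw [h1]
  algebraize [φ.comp e.toRingHom]
  change Module.Flat R _
  have : Module.IsTorsionFree R Γ(f.image, (U V).1) := by
    refine ⟨fun r hr => ?_⟩
    intro z₁ z₂ h
    have hr0 : r ≠ 0 := hr.ne_zero
    obtain ⟨s₁, rfl⟩ := f.ker.subschemeι_app_surjective V z₁
    obtain ⟨s₂, rfl⟩ := f.ker.subschemeι_app_surjective V z₂
    rw [← sub_eq_zero, ← map_sub]
    have h2 : r • (f.imageι.app V.1).hom (s₁ - s₂) = 0 := by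
      rw [map_sub, smul_sub, sub_eq_zero]; exact h
    rw [Algebra.smul_def] at h2
    have h3 : algebraMap R Γ(f.image, (U V).1) r = (f.imageι.app V.1).hom
        (res (q.appTop.hom ((Scheme.ΓSpecIso (CommRingCat.of R)).inv.hom r)) V.1) := by
      change φ ((Scheme.ΓSpecIso (CommRingCat.of R)).inv.hom r) = _
      have h4 : (f.imageι ≫ q).appLE ⊤ (U V).1 le_top =
          q.appTop ≫ Y.presheaf.map (homOfLE (le_top : V.1 ≤ ⊤)).op ≫ f.imageι.app V.1 := by
        rw [f.imageι.naturality]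
        simp only [Scheme.Hom.appLE, Scheme.Hom.comp_app]
        rfl
      rw [hφ, h4]
      rfl
    rw [h3, ← map_mul] at h2
    have h4 : res (q.appTop.hom ((Scheme.ΓSpecIso (CommRingCat.of R)).inv.hom r)) V.1 * (s₁ - s₂) ∈ f.ker.ideal V := by
      rw [← f.ker.ker_subschemeι_app V]
      exact h2
    have h5 := key V r hr0 _ h4
    rw [← f.ker.ker_subschemeι_app V] at h5
    exact h5
  infer_instance

end K265.Colon
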