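import Groth.Agent.CalgB.ProjImm2
import Groth.Agent.Ega2.AmpleUnit
import Groth.Prelude.Def_RelProj
/-!
Dense affine open neighbourhoods in noetherian schemes.
-/
set_option autoImplicit false
universe u
open CategoryTheory CategoryTheory.Limits AlgebraicGeometry

namespace K265.AffDense

theorem exists_dense {X : Scheme.{u}} [IsNoetherian X] (V : X.Opens) (hV : IsAffineOpen V) :
    ∃ U : X.Opens, V ≤ U ∧ IsAffineOpen U ∧ Dense (U : Set X) := by
  have hwf : WellFoundedGT X.Opens := inferInstanceAs (WellFoundedGT (TopologicalSpace.Opens X))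
  obtain ⟨U, ⟨hVU, hU⟩, hmax⟩ := hwf.wf.has_min {U : X.Opens | V ≤ U ∧ IsAffineOpen U} ⟨V, le_rfl, hV⟩
  refine ⟨U, hVU, hU, ?_⟩
  by_contra hd
  rw [dense_iff_closure_eq, ← Ne, Set.ne_univ_iff_exists_notMem] at hd
  obtain ⟨x, hx⟩ := hd
  let C : X.Opens := ⟨(closure (U : Set X))ᶜ, isClosed_closure.isOpen_compl⟩
  obtain ⟨W, hW, hxW, hWC⟩ := exists_isAffineOpen_mem_and_subset (X := X) (x := x) (U := C) hx
  have hdis : Disjoint U W := by
    rw [disjoint_iff]
    ext y
    simp only [TopologicalSpace.Opens.coe_inf, Set.mem_inter_iff, TopologicalSpace.Opens.coe_bot,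
      Set.mem_empty_iff_false, iff_false, not_and]
    intro hyU hyW
    exact hWC hyW (subset_closure hyU)
  have hUW : IsAffineOpen (U ⊔ W) := hU.sup_of_disjoint hW hdis
  refine hmax (U ⊔ W) ⟨hVU.trans le_sup_left, hUW⟩ ?_
  refine lt_of_le_of_ne le_sup_left ?_
  intro h
  apply hx
  have : x ∈ U ⊔ W := Or.inr hxW
  rw [← h] at this
  exact subset_closure this

theorem main {S X : Scheme.{u}} (f : X ⟶ S)
    [IsNoetherian S] [IsSeparated f] [QuasiCompact f] [LocallyOfFiniteType f] :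
    ∃ (n : ℕ) (U : Fin n → X.Opens), (⨆ i, U i) = ⊤ ∧
      ∀ i, IsAffineOpen (U i) ∧ Dense ((U i : Set X)) ∧ RelProj.IsQuasiProjective ((U i).ι ≫ f) := by
  have hl : IsLocallyNoetherian X := LocallyOfFiniteType.isLocallyNoetherian f
  have hcp : CompactSpace X := QuasiCompact.compactSpace_of_compactSpace f
  have hN : IsNoetherian X := {}
  have H : ∀ x : X, ∃ U : X.Opens, x ∈ U ∧ IsAffineOpen U ∧ Dense (U : Set X) := by
    intro x
    obtain ⟨W, hW, hxW, -⟩ := exists_isAffineOpen_mem_and_subset (X := X) (x := x) (U := ⊤) trivial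
    obtain ⟨U, hWU, hU, hd⟩ := exists_dense W hW
    exact ⟨U, hWU hxW, hU, hd⟩
  choose U hxU hU hd using H
  obtain ⟨t, ht⟩ := isCompact_univ.elim_finite_subcover (fun x => (U x : Set X)) (fun x => (U x).2)
    (fun x _ => Set.mem_iUnion.2 ⟨x, hxU x⟩)
  refine ⟨t.card, fun i => U (t.equivFin.symm i), ?_, fun i => ⟨hU _, hd _, ?_⟩⟩
  · rw [eq_top_iff]
    intro x _
    obtain ⟨y, hy⟩ := Set.mem_iUnion.1 (ht (Set.mem_univ x))
    obtain ⟨hyt, hxy⟩ := Set.mem_iUnion.1 hy
    refine TopologicalSpace.Opens.mem_iSup.2 ⟨t.equivFin ⟨y, hyt⟩, ?_⟩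
    show x ∈ U (t.equivFin.symm (t.equivFin ⟨y, hyt⟩))
    rw [Equiv.symm_apply_apply]
    exact hxy
  · have haff : IsAffine (U (t.equivFin.symm i) : Scheme.{u}) := hU _
    exact ⟨inferInstance, inferInstance, _, Groth.Agent.CalgB.ProjImm.isRelAmple_of_isAmple
      (Groth.Agent.Ega2.Weight.isAmple_structureModule _)⟩

end K265.AffDense
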