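import Groth.Agent.EGA2.K35.Univ
/-!
# Transfer of compatibility along a morphism, for trivialised modules
-/
set_option autoImplicit false
universe u
open CategoryTheory CategoryTheory.Limits AlgebraicGeometry TopologicalSpace Opposite

namespace K265.CompTr

open Groth.Agent.Fdesc.LocGen Groth.Agent.Ega2.Nv K43.VADef K42.VATens K35.Univ

/-- sections of the structure module as functions -/
def fn {Y : Scheme.{u}} {W : Y.Opens} (x : Γ(Coh.structureModule Y, W)) : Γ(Y, W) := x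

theorem fn_res {Y : Scheme.{u}} {W W' : Y.Opens} (h : W' ≤ W) (x : Γ(Coh.structureModule Y, W)) :
    fn (res _ h x) = ores h (fn x) := rfl

theorem fn_smul {Y : Scheme.{u}} {W : Y.Opens} (a : Γ(Y, W)) (x : Γ(Coh.structureModule Y, W)) :
    fn (a • x) = a * fn x := rfl

theorem isGen_iff_isUnit {Y : Scheme.{u}} {W : Y.Opens} (x : Γ(Coh.structureModule Y, W)) :
    IsGen x ↔ IsUnit (fn x) := by
  have h := (isGen_one (X := Y) W).smul_iff (a := fn x)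
  have h2 : fn x • one W = x := (ofFun_eq_smul (fn x)).symm
  rwa [h2] at h

variable {X Y P T : Scheme.{u}} {f : Y ⟶ X} {p : P ⟶ X} {E : X.Modules} {O1 : P.Modules}
  {ρ : E ⟶ (Scheme.Modules.pushforward f).obj (Coh.structureModule Y)} {φ : E ⟶ (Scheme.Modules.pushforward p).obj O1}
  {h : T ⟶ X} {N : T.Modules} {ρT : E ⟶ (Scheme.Modules.pushforward h).obj N}

theorem le_pre {k : T ⟶ Y} (hk : k ≫ f = h) (U : X.Opens) : h ⁻¹ᵁ U ≤ k ⁻¹ᵁ (f ⁻¹ᵁ U) := by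
  subst hk; exact le_rfl

theorem res_appLE_app {k : T ⟶ Y} {W : Y.Opens} {W' : T.Opens} (h1 : W' ≤ k ⁻¹ᵁ W) {D : Y.Opens} (hD : D ≤ W)
    {D' : T.Opens} (hD' : D' ≤ W') (hD'' : D' ≤ k ⁻¹ᵁ D) (x : Γ(Y, W)) :
    ores hD' (k.appLE W W' h1 x) = k.appLE D D' hD'' (ores hD x) := by
  have e1 : k.appLE W W' h1 ≫ T.presheaf.map (homOfLE hD').op = k.appLE W D' (hD'.trans h1) :=
    Scheme.Hom.appLE_map _ _ _
  have e2 : Y.presheaf.map (homOfLE hD).op ≫ k.appLE D D' hD'' = k.appLE W D' (hD'.trans h1) :=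
    Scheme.Hom.map_appLE _ _ _
  exact (congr(($e1).hom x)).trans (congr(($e2).hom x)).symm

/-- Compatibility passes to a scheme over `Y`, for modules trivialised by a section. -/
theorem comp_transfer (k : T ⟶ Y) (hk : k ≫ f = h) (γ : Γ(N, ⊤)) (hγ : IsGen γ)
    (H : ∀ (U : X.Opens) (t : Γ(E, U)), se h ρT t = k.appLE _ _ (le_pre hk U) (fn (se f ρ t)) • res N le_top γ)
    (r : Y ⟶ P) (hr : r ≫ p = f) (hc : Comp ρ φ r hr) :
    Comp ρT φ (k ≫ r) (by rw [Category.assoc, hr, hk]) := by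
  intro V V' e t D hD hD' a he ha
  obtain ⟨h1, h2⟩ := hc V V' e t D hD hD' a he ha
  have hr' : (k ≫ r) ≫ p = h := by rw [Category.assoc, hr, hk]
  have hle : (k ≫ r) ⁻¹ᵁ D ≤ k ⁻¹ᵁ (r ⁻¹ᵁ D) := le_refl (k ⁻¹ᵁ (r ⁻¹ᵁ D))
  have key : ∀ {V : X.Opens} (hD : D ≤ p ⁻¹ᵁ V) (t : Γ(E, V)), res N (pre_le hr' hD) (se h ρT t) =
      k.appLE (r ⁻¹ᵁ D) ((k ≫ r) ⁻¹ᵁ D) hle (fn (res (Coh.structureModule Y) (pre_le hr hD) (se f ρ t))) •
        res N (le_top : (k ≫ r) ⁻¹ᵁ D ≤ ⊤) γ := by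
    intro V hD t
    rw [H, res_smul, res_res, fn_res]
    congr 1
    exact res_appLE_app (le_pre hk V) (pre_le hr hD) (pre_le hr' hD) hle _
  have happ : ((k ≫ r).app D a : Γ(T, (k ≫ r) ⁻¹ᵁ D)) = k.appLE (r ⁻¹ᵁ D) ((k ≫ r) ⁻¹ᵁ D) hle (r.app D a) := by
    have e1 : (k ≫ r).app D = r.app D ≫ k.appLE (r ⁻¹ᵁ D) ((k ≫ r) ⁻¹ᵁ D) hle := by
      rw [Scheme.Hom.comp_app]
      congr 1
      exact (Scheme.Hom.appLE_eq_app k).symm
    exact congr(($e1).hom a)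
  rw [key hD, key hD', h2, fn_smul, map_mul, mul_smul, happ]
  refine ⟨(hγ.res le_top).unit_smul ?_, rfl⟩
  rw [isGen_iff_isUnit] at h1
  exact h1.map (k.appLE (r ⁻¹ᵁ D) ((k ≫ r) ⁻¹ᵁ D) hle).hom

end K265.CompTr
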