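import Mathlib.AlgebraicGeometry.Morphisms.Separated
import Mathlib.AlgebraicGeometry.Morphisms.Proper
import Mathlib.AlgebraicGeometry.Morphisms.SchemeTheoreticallyDominant
import Mathlib.AlgebraicGeometry.Restrict
/-!
Dominant sections over an open subscheme of a separated morphism.
-/
set_option autoImplicit false
universe u
open CategoryTheory CategoryTheory.Limits AlgebraicGeometry

namespace K265.Sect

variable {X Y Z : Scheme.{u}}

theorem range_eq_of_dominant (j : X ⟶ Y) [IsOpenImmersion j] (π : Z ⟶ Y) [IsSeparated π] (k : X ⟶ Z) [IsDominant k]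
    (h : k ≫ π = j) : Set.range k = π ⁻¹' (Set.range j) := by
  apply Set.Subset.antisymm
  · rintro _ ⟨x, rfl⟩
    exact ⟨x, by rw [← h]; rfl⟩
  · intro z hz
    obtain ⟨x, hx⟩ := hz
    obtain ⟨p, hp, -⟩ := Scheme.Pullback.exists_preimage_pullback (f := π) (g := j) z x hx.symm
    let s : X ⟶ pullback π j := pullback.lift k (𝟙 X) (by rw [h, Category.id_comp])
    have hs1 : s ≫ pullback.fst π j = k := pullback.lift_fst _ _ _
    have hs2 : s ≫ pullback.snd π j = 𝟙 X := pullback.lift_snd _ _ _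
    have hs : IsClosedImmersion s := by
      have : IsClosedImmersion (s ≫ pullback.snd π j) := by rw [hs2]; infer_instance
      exact IsClosedImmersion.of_comp s (pullback.snd π j)
    have hcl : IsClosed (Set.range s) := s.isClosedEmbedding.isClosed_range
    by_contra hne
    have hps : p ∉ Set.range s := by
      rintro ⟨y, hy⟩
      apply hne
      refine ⟨y, ?_⟩
      rw [← hs1, Scheme.Hom.comp_apply, hy, hp]
    have hopen : IsOpen ((pullback.fst π j) '' (Set.range s)ᶜ) :=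
      (pullback.fst π j).isOpenEmbedding.isOpenMap _ hcl.isOpen_compl
    obtain ⟨w, ⟨q, hq, hqw⟩, ⟨y, hy⟩⟩ := (k.denseRange).inter_open_nonempty _ hopen ⟨z, ⟨p, hps, hp⟩⟩
    apply hq
    refine ⟨y, ?_⟩
    apply (pullback.fst π j).isOpenEmbedding.injective
    rw [hqw, ← hy, ← Scheme.Hom.comp_apply, hs1]

section Opens

variable (π : Z ⟶ Y) (U : Y.Opens) (k : (U : Scheme.{u}) ⟶ Z) [IsOpenImmersion k] (h : k ≫ π = U.ι)
  (hr : Set.range k = π ⁻¹' (U : Set Y))

include h hr in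
theorem exists_iso : ∃ (e : (U : Scheme.{u}) ≅ (π ⁻¹ᵁ U : Z.Opens)), e.hom ≫ (π ⁻¹ᵁ U).ι = k ∧
    e.hom ≫ (π ∣_ U) = 𝟙 _ := by
  have hr' : Set.range k ⊆ Set.range (π ⁻¹ᵁ U).ι := by
    rw [hr, Scheme.Opens.range_ι]; rfl
  let k' : (U : Scheme.{u}) ⟶ (π ⁻¹ᵁ U : Z.Opens) := IsOpenImmersion.lift (π ⁻¹ᵁ U).ι k hr'
  have hk' : k' ≫ (π ⁻¹ᵁ U).ι = k := IsOpenImmersion.lift_fac _ _ _
  have h1 : IsOpenImmersion k' := by
    have : IsOpenImmersion (k' ≫ (π ⁻¹ᵁ U).ι) := by rw [hk']; infer_instance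
    exact IsOpenImmersion.of_comp k' (π ⁻¹ᵁ U).ι
  have h2 : Surjective k' := by
    constructor
    intro z
    have hz : (π ⁻¹ᵁ U).ι z ∈ Set.range k := by
      rw [hr]; exact z.2
    obtain ⟨u, hu⟩ := hz
    refine ⟨u, (π ⁻¹ᵁ U).ι.isOpenEmbedding.injective ?_⟩
    rw [← hu, ← Scheme.Hom.comp_apply, hk']
  have h3 : IsIso k' := (isIso_iff_isOpenImmersion_and_epi_base k').2 ⟨h1, by
    rw [TopCat.epi_iff_surjective]; exact k'.surjective⟩
  refine ⟨asIso k', hk', ?_⟩
  rw [← cancel_mono U.ι, Category.assoc, morphismRestrict_ι, asIso_hom, ← Category.assoc, hk', h, Category.id_comp]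

include h hr in
theorem isIso_restrict : IsIso (π ∣_ U) := by
  obtain ⟨e, -, he⟩ := exists_iso π U k h hr
  have : (π ∣_ U) = e.inv := by rw [← cancel_epi e.hom, he, e.hom_inv_id]
  rw [this]; infer_instance

include h hr in
theorem restrict_comp : (π ∣_ U) ≫ k = (π ⁻¹ᵁ U).ι := by
  obtain ⟨e, he', he⟩ := exists_iso π U k h hr
  rw [← cancel_epi e.hom, ← Category.assoc, he, Category.id_comp, he']

end Opens

end K265.Sect
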