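import Groth.Agent.FlatMor.K264.ExtendLF
import Groth.Agent.FlatMor.K264.ProperQDom
import Groth.Agent.FlatMor.K265.Sect
/-!
Extension of finite locally free modules after a modification, with schematically dense open part.
-/
set_option autoImplicit false
universe u
open CategoryTheory CategoryTheory.Limits AlgebraicGeometry

namespace K265.ExtendVB

open K989.Model K265.Sect

theorem exists_modification {X Y : Scheme.{u}} [IsNoetherian Y] (j : X ⟶ Y) [IsOpenImmersion j] (E : X.Modules)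
    (hE : FlatMod.IsFinLocFree E) :
    ∃ (Z : Scheme.{u}) (π : Z ⟶ Y) (k : X ⟶ Z), IsProper π ∧ IsOpenImmersion k ∧ QuasiCompact k ∧
      IsSchemeTheoreticallyDominant k ∧ k ≫ π = j ∧ Set.range k = π ⁻¹' (Set.range j) ∧
      ∃ E' : Z.Modules, FlatMod.IsFinLocFree E' ∧ Nonempty ((Scheme.Modules.pullback k).obj E' ≅ E) := by
  obtain ⟨𝓘, Y', b, j', hb, hft, hd, hbp, hj', hjb, hr, E₁, hE₁, ⟨e₁⟩⟩ := K264.ExtendLF.exists_one j E hE
  have hl : IsLocallyNoetherian Y' := LocallyOfFiniteType.isLocallyNoetherian b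
  have hcp : CompactSpace Y' := QuasiCompact.compactSpace_of_compactSpace b
  have hN : IsNoetherian Y' := {}
  obtain ⟨Z, k, c, hc, hk, hkq, hkd, hkc, H⟩ := K264.ExtendLF.exists_dominant (ι := PUnit.{1}) j' (𝟙 Y') (fun _ => E)
    (fun _ => ⟨E₁, hE₁, ⟨e₁⟩⟩)
  obtain ⟨E', hE', he'⟩ := H PUnit.unit
  have h1 : k ≫ c ≫ b = j := by rw [← Category.assoc, hkc, hjb]
  exact ⟨Z, c ≫ b, k, inferInstance, hk, hkq, hkd, h1, range_eq_of_dominant j (c ≫ b) k h1, E', hE', he'⟩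

/-- the conclusion of S17888 -/
theorem exists_over {X : Scheme.{u}} [IsNoetherian X] (U X₁ : X.Opens) (hU₁ : U ≤ X₁)
    (E₁ : (↑X₁ : Scheme.{u}).Modules) (hE₁ : FlatMod.IsFinLocFree E₁) :
    ∃ (X' : Scheme.{u}) (π : X' ⟶ X) (E' : X'.Modules), IsProper π ∧ IsIso (π ∣_ U) ∧
      IsSchemeTheoreticallyDominant (π ⁻¹ᵁ U).ι ∧ FlatMod.IsFinLocFree E' ∧
      Nonempty ((Scheme.Modules.pullback (π ⁻¹ᵁ U).ι).obj E' ≅
        (Scheme.Modules.pullback (π ∣_ U ≫ X.homOfLE hU₁)).obj E₁) := by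
  obtain ⟨X', π, k, hπ, hk, hkq, hkd, hkπ, hr, E', hE', ⟨e⟩⟩ := exists_modification U.ι
    ((Scheme.Modules.pullback (X.homOfLE hU₁)).obj E₁) (Groth.Agent.PerfC.PullRestrict.isFinLocFree_pullback _ hE₁)
  have hr' : Set.range k = π ⁻¹' (U : Set X) := by rw [hr, Scheme.Opens.range_ι]
  have hiso := isIso_restrict π U k hkπ hr'
  have hc := restrict_comp π U k hkπ hr'
  refine ⟨X', π, E', hπ, hiso, ?_, hE', ⟨?_⟩⟩
  · rw [← hc]; infer_instance
  · exact (cmp hc E').symm ≪≫ (Scheme.Modules.pullback (π ∣_ U)).mapIso e ≪≫ cmp rfl E₁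

end K265.ExtendVB
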