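import Groth.Agent.FlatMor.K265.ExtendVB
/-!
A common proper quasi-domination extending a finite locally free module.
-/
set_option autoImplicit false
universe u
open CategoryTheory CategoryTheory.Limits AlgebraicGeometry

namespace K265.ExtendVB

open K989.Model K265.Sect

theorem dominant_ι {U X : Scheme.{u}} (W : X.Opens) (l : U ⟶ (W : Scheme.{u})) (k : U ⟶ X)
    [IsSchemeTheoreticallyDominant k] (h : l ≫ W.ι = k) : IsSchemeTheoreticallyDominant W.ι := by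
  constructor
  rw [eq_bot_iff, ← Scheme.Hom.ker_eq_bot k, ← h]
  exact Scheme.Hom.le_ker_comp _ _

theorem pull_qdom {S X₀ X X₁ U : Scheme.{u}} (q₀ : X₀ ⟶ S) [IsSeparated q₀] (p₁ : X₁ ⟶ S) [IsSeparated p₁]
    (π : X ⟶ X₀) [IsProper π] (k₀ : U ⟶ X₀) (k : U ⟶ X) [IsSchemeTheoreticallyDominant k] (hk : k ≫ π = k₀)
    (j₁ : U ⟶ X₁) (W : X₀.Opens) (φ : (↑W : Scheme.{u}) ⟶ X₁) [IsProper φ] (hφ : W.ι ≫ q₀ = φ ≫ p₁) (l : U ⟶ ↑W)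
    (hl : l ≫ W.ι = k₀) (hl' : l ≫ φ = j₁) :
    ∃ (W₁ : X.Opens) (φ₁ : (↑W₁ : Scheme.{u}) ⟶ X₁) (hφ₁ : W₁.ι ≫ (π ≫ q₀) = φ₁ ≫ p₁) (l₁ : U ⟶ ↑W₁),
        IsSchemeTheoreticallyDominant W₁.ι ∧ IsProper φ₁ ∧ l₁ ≫ W₁.ι = k ∧ l₁ ≫ φ₁ = j₁ ∧
        IsClosed (Set.range (fun w => (Limits.pullback.lift W₁.ι φ₁ hφ₁) w)) := by
  have hr : Set.range k ⊆ Set.range (π ⁻¹ᵁ W).ι := by
    rw [Scheme.Opens.range_ι]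
    rintro _ ⟨u, rfl⟩
    change π (k u) ∈ W
    rw [← Scheme.Hom.comp_apply, hk, ← hl]
    exact (l u).2
  let l' : U ⟶ (π ⁻¹ᵁ W : X.Opens) := IsOpenImmersion.lift (π ⁻¹ᵁ W).ι k hr
  have hl'1 : l' ≫ (π ⁻¹ᵁ W).ι = k := IsOpenImmersion.lift_fac _ _ _
  have hl'2 : l' ≫ (π ∣_ W) = l := by
    rw [← cancel_mono W.ι, Category.assoc, morphismRestrict_ι, ← Category.assoc, hl'1, hk, hl]
  have hφ' : (π ⁻¹ᵁ W).ι ≫ (π ≫ q₀) = ((π ∣_ W) ≫ φ) ≫ p₁ := by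
    rw [Category.assoc, ← hφ, ← Category.assoc, ← Category.assoc, morphismRestrict_ι]
  refine ⟨π ⁻¹ᵁ W, (π ∣_ W) ≫ φ, hφ', l', dominant_ι _ l' k hl'1, inferInstance, hl'1, ?_, ?_⟩
  · rw [← Category.assoc, hl'2, hl']
  · exact K264.ProperQDom.isClosed_range_lift _ _ _ _ _

theorem exists_qdom {S X₁ X₂ U : Scheme.{u}}
    [IsNoetherian S] (p₁ : X₁ ⟶ S) (p₂ : X₂ ⟶ S)
    [IsSeparated p₁] [QuasiCompact p₁] [LocallyOfFiniteType p₁]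
    [IsSeparated p₂] [QuasiCompact p₂] [LocallyOfFiniteType p₂]
    (j₁ : U ⟶ X₁) (j₂ : U ⟶ X₂) [IsOpenImmersion j₁] [IsOpenImmersion j₂] (hj : j₁ ≫ p₁ = j₂ ≫ p₂)
    (E : U.Modules) (hE : FlatMod.IsFinLocFree E) :
    ∃ (X : Scheme.{u}) (p : X ⟶ S) (k : U ⟶ X) (E' : X.Modules),
      IsSeparated p ∧ QuasiCompact p ∧ LocallyOfFiniteType p ∧ IsOpenImmersion k ∧ QuasiCompact k ∧
      IsSchemeTheoreticallyDominant k ∧ k ≫ p = j₁ ≫ p₁ ∧ FlatMod.IsFinLocFree E' ∧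
      Nonempty ((Scheme.Modules.pullback k).obj E' ≅ E) ∧
      (∃ (W₁ : X.Opens) (φ₁ : (↑W₁ : Scheme.{u}) ⟶ X₁) (hφ₁ : W₁.ι ≫ p = φ₁ ≫ p₁) (l₁ : U ⟶ ↑W₁),
        IsSchemeTheoreticallyDominant W₁.ι ∧ IsProper φ₁ ∧ l₁ ≫ W₁.ι = k ∧ l₁ ≫ φ₁ = j₁ ∧
        IsClosed (Set.range (fun w => (Limits.pullback.lift W₁.ι φ₁ hφ₁) w))) ∧
      (∃ (W₂ : X.Opens) (φ₂ : (↑W₂ : Scheme.{u}) ⟶ X₂) (hφ₂ : W₂.ι ≫ p = φ₂ ≫ p₂) (l₂ : U ⟶ ↑W₂),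
        IsSchemeTheoreticallyDominant W₂.ι ∧ IsProper φ₂ ∧ l₂ ≫ W₂.ι = k ∧ l₂ ≫ φ₂ = j₂ ∧
        IsClosed (Set.range (fun w => (Limits.pullback.lift W₂.ι φ₂ hφ₂) w))) := by
  have hl₁ : IsLocallyNoetherian X₁ := LocallyOfFiniteType.isLocallyNoetherian p₁
  have hcp₁ : CompactSpace X₁ := QuasiCompact.compactSpace_of_compactSpace p₁
  have hN₁ : IsNoetherian X₁ := {}
  have hU : CompactSpace U := QuasiCompact.compactSpace_of_compactSpace j₁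
  obtain ⟨X₀, q₀, hs₀, hqc₀, hft₀, k₀, hk₀, hk₀d, hk₀q, ⟨W₁, l₁, φ₁, hφ₁, hl₁, hl₁', hp₁, hc₁⟩,
    ⟨W₂, l₂, φ₂, hφ₂, hl₂, hl₂', hp₂, hc₂⟩⟩ := K264.ProperQDom.exists_target p₁ p₂ j₁ j₂ hj
  have hl₀ : IsLocallyNoetherian X₀ := LocallyOfFiniteType.isLocallyNoetherian q₀
  have hcp₀ : CompactSpace X₀ := QuasiCompact.compactSpace_of_compactSpace q₀
  have hN₀ : IsNoetherian X₀ := {}
  obtain ⟨X, π, k, hπ, hk, hkq, hkd, hkπ, hr, E', hE', he⟩ := exists_modification k₀ E hE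
  refine ⟨X, π ≫ q₀, k, E', inferInstance, inferInstance, inferInstance, hk, hkq, hkd, ?_, hE', he, ?_, ?_⟩
  · rw [← Category.assoc, hkπ, hk₀q]
  · exact pull_qdom q₀ p₁ π k₀ k hkπ j₁ W₁ φ₁ hφ₁ l₁ hl₁ hl₁'
  · exact pull_qdom q₀ p₂ π k₀ k hkπ j₂ W₂ φ₂ hφ₂ l₂ hl₂ hl₂'

end K265.ExtendVB
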