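import Groth.Agent.S1386
import Groth.Agent.S2156
import Groth.Agent.S1381
import Groth.Agent.Fga.FibFlat
import Groth.Agent.Flat2D.FlatAtPt
import Mathlib.RingTheory.AdicCompletion.Completeness
import Mathlib.RingTheory.AdicCompletion.Noetherian
import Mathlib.RingTheory.AdicCompletion.AsTensorProduct
import Mathlib.RingTheory.Smooth.Flat
import Mathlib.AlgebraicGeometry.Morphisms.Proper
import Mathlib.AlgebraicGeometry.FunctionField
/-!
Flatness and smoothness over the adic completion along the special fibre, for a proper morphism to an affine scheme over a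
discrete valuation ring.
-/
set_option autoImplicit false
universe u
open CategoryTheory CategoryTheory.Limits AlgebraicGeometry

namespace K265.FibAdic

open Groth.Agent.Fga.FibFlat

/-- A morphism `ι : F ⟶ Spec A` whose composite with `Spec A ⟶ Spec V` factors through `Spec κ`, with `I` killed in `κ`,
factors through `Spec (A / I A)`. -/
theorem exists_factor {V A κ : CommRingCat.{u}} (a : V ⟶ A) (k : V ⟶ κ) (I : Ideal V) (hI : ∀ v ∈ I, k.hom v = 0)
    {F : Scheme.{u}} (ι : F ⟶ Spec A) (c : F ⟶ Spec κ) (h : ι ≫ Spec.map a = c ≫ Spec.map k) :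
    ∃ t : F ⟶ Spec (CommRingCat.of (A ⧸ I.map a.hom)),
      t ≫ Spec.map (CommRingCat.ofHom (Ideal.Quotient.mk (I.map a.hom))) = ι := by
  let φ : A ⟶ Γ(F, ⊤) := (Scheme.ΓSpecIso A).inv ≫ ι.appTop
  have hφ : F.toSpecΓ ≫ Spec.map φ = ι := by
    rw [Spec.map_comp, ← Category.assoc, ← Scheme.toSpecΓ_naturality, Category.assoc,
      toSpecΓ_SpecMap_ΓSpecIso_inv, Category.comp_id]
  have h1 : a ≫ φ = k ≫ (Scheme.ΓSpecIso κ).inv ≫ c.appTop := by
    rw [← Category.assoc, ← Category.assoc, Scheme.ΓSpecIso_inv_naturality, Scheme.ΓSpecIso_inv_naturality,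
      Category.assoc, Category.assoc, ← Scheme.Hom.comp_appTop, ← Scheme.Hom.comp_appTop, h]
  have hker : I.map a.hom ≤ RingHom.ker φ.hom := by
    rw [Ideal.map_le_iff_le_comap]
    intro v hv
    rw [Ideal.mem_comap, RingHom.mem_ker]
    have h3 := ConcreteCategory.congr_hom h1 v
    refine h3.trans ?_
    change ((Scheme.ΓSpecIso κ).inv ≫ c.appTop).hom (k.hom v) = 0
    rw [hI v hv, map_zero]
  refine ⟨F.toSpecΓ ≫ Spec.map (CommRingCat.ofHom (Ideal.Quotient.lift _ φ.hom fun a ha => hker ha)), ?_⟩
  rw [Category.assoc, ← Spec.map_comp]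
  have : CommRingCat.ofHom (Ideal.Quotient.mk (I.map a.hom)) ≫
      CommRingCat.ofHom (Ideal.Quotient.lift _ φ.hom fun a ha => hker ha) = φ := by
    ext x; rfl
  rw [this, hφ]

/-- The fibre of `Spec A ⟶ Spec V` over the closed point factors through `Spec (A / 𝔪 A)`. -/
theorem exists_fiberι_factor (V : Type u) [CommRing V] [IsLocalRing V] (A : Type u) [CommRing A] [Algebra V A] :
    ∃ t : (Spec.map (CommRingCat.ofHom (algebraMap V A))).fiber (IsLocalRing.closedPoint V) ⟶
        Spec (CommRingCat.of (A ⧸ (IsLocalRing.maximalIdeal V).map (algebraMap V A))),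
      t ≫ Spec.map (CommRingCat.ofHom (Ideal.Quotient.mk ((IsLocalRing.maximalIdeal V).map (algebraMap V A)))) =
        (Spec.map (CommRingCat.ofHom (algebraMap V A))).fiberι (IsLocalRing.closedPoint V) := by
  let s₀ : Spec (CommRingCat.of V) := IsLocalRing.closedPoint V
  have hfac := (Spec.map (CommRingCat.ofHom (algebraMap V A))).fiber_fac s₀
  rw [← Scheme.Spec.map_residueFieldIso_inv_eq_fromSpecResidueField, ← Category.assoc] at hfac
  refine exists_factor (CommRingCat.ofHom (algebraMap V A)) _ (IsLocalRing.maximalIdeal V) ?_ _ _ hfac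
  intro v hv
  change algebraMap V s₀.asIdeal.ResidueField v = 0
  rw [Ideal.algebraMap_residueField_eq_zero]
  exact hv

/-- a point where a morphism, flat and local, is followed by a morphism such that the composite is flat -/
theorem flat_stalkMap_of_comp {P X Y : Scheme.{u}} (p : P ⟶ X) (f : X ⟶ Y) (z : P)
    (h1 : (p.stalkMap z).hom.Flat) (h2 : ((p ≫ f).stalkMap z).hom.Flat) : (f.stalkMap (p z)).hom.Flat := by
  rw [Scheme.Hom.stalkMap_comp] at h2
  refine Groth.Agent.Flat2F.FlatComp.ringHom_flat_of_comp_faithfullyFlat _ (p.stalkMap z).hom ?_ h2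
  algebraize [(p.stalkMap z).hom]
  have : IsLocalHom (algebraMap (X.presheaf.stalk (p z)) (P.presheaf.stalk z)) :=
    inferInstanceAs (IsLocalHom (p.stalkMap z).hom)
  exact Module.FaithfullyFlat.of_flat_of_isLocalHom

section Special

variable {V : Type u} [CommRing V] [IsLocalRing V] {A : Type u} [CommRing A] [Algebra V A]
  {X : Scheme.{u}} (h : X ⟶ Spec (CommRingCat.of A))

/-- The fibre map over the closed point is a base change of the reduction modulo `𝔪`. -/
theorem fiberMap_of_special (P : MorphismProperty Scheme.{u}) [P.IsStableUnderBaseChange]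
    (h0 : P (pullback.snd h (Spec.map (CommRingCat.ofHom
          (Ideal.Quotient.mk ((IsLocalRing.maximalIdeal V).map (algebraMap V A))))))) :
    P (MoreMor.fiberMap h (Spec.map (CommRingCat.ofHom (algebraMap V A))) (IsLocalRing.closedPoint V)) := by
  obtain ⟨t, ht⟩ := exists_fiberι_factor V A
  have sq : IsPullback ((h ≫ Spec.map (CommRingCat.ofHom (algebraMap V A))).fiberι (IsLocalRing.closedPoint V))
      (MoreMor.fiberMap h (Spec.map (CommRingCat.ofHom (algebraMap V A))) (IsLocalRing.closedPoint V)) h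
      ((Spec.map (CommRingCat.ofHom (algebraMap V A))).fiberι (IsLocalRing.closedPoint V)) :=
    Groth.Agent.S1381.isPullback_fiberMap h _ _
  have sq0 := IsPullback.of_hasPullback h (Spec.map (CommRingCat.ofHom
          (Ideal.Quotient.mk ((IsLocalRing.maximalIdeal V).map (algebraMap V A)))))
  rw [← ht] at sq
  have e : ((h ≫ Spec.map (CommRingCat.ofHom (algebraMap V A))).fiberι (IsLocalRing.closedPoint V)) ≫ h =
      (MoreMor.fiberMap h (Spec.map (CommRingCat.ofHom (algebraMap V A))) (IsLocalRing.closedPoint V) ≫ t) ≫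
      Spec.map (CommRingCat.ofHom (Ideal.Quotient.mk ((IsLocalRing.maximalIdeal V).map (algebraMap V A)))) := by
    rw [Category.assoc]; exact sq.w
  have sq1 : IsPullback (pullback.lift _ _ e)
      (MoreMor.fiberMap h (Spec.map (CommRingCat.ofHom (algebraMap V A))) (IsLocalRing.closedPoint V))
      (pullback.snd h (Spec.map (CommRingCat.ofHom
          (Ideal.Quotient.mk ((IsLocalRing.maximalIdeal V).map (algebraMap V A)))))) t := by
    refine IsPullback.of_right ?_ (pullback.lift_snd _ _ _) sq0
    rw [pullback.lift_fst]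
    exact sq
  exact P.of_isPullback sq1 h0

theorem flat_stalkMap_of_special
    [LocallyOfFinitePresentation (h ≫ Spec.map (CommRingCat.ofHom (algebraMap V A)))]
    [LocallyOfFiniteType (Spec.map (CommRingCat.ofHom (algebraMap V A)))]
    [Flat (h ≫ Spec.map (CommRingCat.ofHom (algebraMap V A)))]
    (h0 : Flat (pullback.snd h (Spec.map (CommRingCat.ofHom
          (Ideal.Quotient.mk ((IsLocalRing.maximalIdeal V).map (algebraMap V A)))))))
    (x : X) (hx : (h ≫ Spec.map (CommRingCat.ofHom (algebraMap V A))) x = IsLocalRing.closedPoint V) :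
    (h.stalkMap x).hom.Flat := by
  have hF := fiberMap_of_special h @Flat h0
  have h1 := (flat_fiberMap_iff_forall h _ _).1 hF x hx
  exact (((Groth.Agent.S1386.result h (Spec.map (CommRingCat.ofHom (algebraMap V A)))).1 x).1
    ⟨Flat.stalkMap _ x, h1⟩).2

end Special

section Completion

variable {A : Type u} [CommRing A] [IsNoetherianRing A] (I : Ideal A)

theorem le_comap_maximal (m : Ideal (AdicCompletion I A)) [m.IsMaximal] :
    I ≤ m.comap (algebraMap A (AdicCompletion I A)) := by
  have : IsAdicComplete (I.map (algebraMap A (AdicCompletion I A))) (AdicCompletion I A) :=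
    (IsAdicComplete.map_algebraMap_iff _ _).mpr (AdicCompletion.isAdicComplete (IsNoetherian.noetherian I))
  have h1 := IsAdicComplete.le_jacobson_bot (I.map (algebraMap A (AdicCompletion I A)))
  rw [← Ideal.map_le_iff_le_comap]
  exact h1.trans (sInf_le ⟨bot_le, inferInstance⟩)

variable {X : Scheme.{u}} (h : X ⟶ Spec (CommRingCat.of A)) [IsProper h]

/-- A closed subset of `X` whose image in `Spec A` does not meet `V(I)` has empty preimage in the base change to the
`I`-adic completion. -/
theorem fst_notMem (Z : Set X) (hZ : IsClosed Z) (hd : ∀ z ∈ Z, ¬ (I ≤ (h z).asIdeal))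
    (z : ↥(pullback h (Spec.map (CommRingCat.ofHom (algebraMap A (AdicCompletion I A)))))) :
    pullback.fst h (Spec.map (CommRingCat.ofHom (algebraMap A (AdicCompletion I A)))) z ∉ Z := by
  intro hz
  let g := Spec.map (CommRingCat.ofHom (algebraMap A (AdicCompletion I A)))
  have hT : IsClosed (h '' Z) := h.isClosedMap Z hZ
  have hT' : IsClosed (g ⁻¹' (h '' Z)) := hT.preimage g.continuous
  have hq : pullback.snd h g z ∈ g ⁻¹' (h '' Z) := by
    refine ⟨_, hz, ?_⟩
    rw [← Scheme.Hom.comp_apply, ← Scheme.Hom.comp_apply, pullback.condition]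
  obtain ⟨m, hm, hqm⟩ := Ideal.exists_le_maximal ((pullback.snd h g z : PrimeSpectrum (AdicCompletion I A)).asIdeal)
    (pullback.snd h g z : PrimeSpectrum (AdicCompletion I A)).isPrime.ne_top
  let m' : Spec (CommRingCat.of (AdicCompletion I A)) := ⟨m, hm.isPrime⟩
  have hsp : pullback.snd h g z ⤳ m' := by
    exact (PrimeSpectrum.le_iff_specializes _ _).1 hqm
  have hm' : m' ∈ g ⁻¹' (h '' Z) := hsp.mem_closed hT' hq
  obtain ⟨y, hy, hym⟩ := hm'
  apply hd y hy
  rw [hym]
  have := le_comap_maximal I m
  exact this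

end Completion

end K265.FibAdic
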