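import Groth.Agent.FlatMor.K265.FibAdic
import Groth.Agent.S0386
import Mathlib.AlgebraicGeometry.Morphisms.Smooth
/-!
The flat case of the comparison between a proper morphism over a smooth algebra over a discrete valuation ring and its
base change to the adic completion.
-/
set_option autoImplicit false
universe u
open CategoryTheory CategoryTheory.Limits AlgebraicGeometry

namespace K265.FibAdic

/-- Over a discrete valuation ring, any morphism is flat at the points not above the closed point. -/
theorem flat_stalkMap_of_ne {V : Type u} [CommRing V] [IsDomain V] [IsDiscreteValuationRing V] {X : Scheme.{u}}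
    (f : X ⟶ Spec (CommRingCat.of V)) (x : X) (hx : f x ≠ IsLocalRing.closedPoint V) :
    (f.stalkMap x).hom.Flat := by
  have h1 : f x = genericPoint (Spec (CommRingCat.of V)) := by
    rw [genericPoint_eq_bot_of_affine]
    by_contra hne
    apply hx
    have hne' : (f x : PrimeSpectrum V).asIdeal ≠ ⊥ := fun h => hne (PrimeSpectrum.ext h)
    apply PrimeSpectrum.ext
    exact IsLocalRing.eq_maximalIdeal ((f x : PrimeSpectrum V).isPrime.isMaximal hne')
  have h2 : IsField ((Spec (CommRingCat.of V)).presheaf.stalk (f x)) := by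
    rw [h1]
    refine isField_stalk_of_closure_mem_irreducibleComponents (Spec (CommRingCat.of V)) _ ?_
    rw [genericPoint_closure, irreducibleComponents_eq_singleton]
    exact Set.mem_singleton _
  exact RingHom.Flat.of_isField h2 _

/-- Base change of a property along a factorisation. -/
theorem snd_comp (P : MorphismProperty Scheme.{u}) [P.IsStableUnderBaseChange] {X Y Y' Y'' : Scheme.{u}}
    (h : X ⟶ Y) (g : Y' ⟶ Y) (e : Y'' ⟶ Y') (k : Y'' ⟶ Y) (hk : e ≫ g = k) (H : P (pullback.snd h g)) :
    P (pullback.snd h k) := by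
  subst hk
  have w : pullback.fst h (e ≫ g) ≫ h = (pullback.snd h (e ≫ g) ≫ e) ≫ g := by
    rw [Category.assoc]; exact pullback.condition
  have sq : IsPullback (pullback.lift (pullback.fst h (e ≫ g)) (pullback.snd h (e ≫ g) ≫ e) w)
      (pullback.snd h (e ≫ g)) (pullback.snd h g) e := by
    refine IsPullback.of_right ?_ (pullback.lift_snd _ _ _) (IsPullback.of_hasPullback h g)
    rw [pullback.lift_fst]
    exact IsPullback.of_hasPullback h (e ≫ g)
  exact P.of_isPullback sq H

section Main

variable {V : Type u} [CommRing V] [IsDomain V] [IsDiscreteValuationRing V]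
    {A : Type u} [CommRing A] [Algebra V A] [Algebra.Smooth V A]
    {X : Scheme.{u}} (h : X ⟶ Spec (.of A)) [IsProper h]

theorem evalOne_comp {A : Type u} [CommRing A] (I : Ideal A) :
    Spec.map (CommRingCat.ofHom (AdicCompletion.evalOneₐ I).toRingHom) ≫
      Spec.map (CommRingCat.ofHom (algebraMap A (AdicCompletion I A))) =
      Spec.map (CommRingCat.ofHom (Ideal.Quotient.mk I)) := by
  rw [← Spec.map_comp, ← CommRingCat.ofHom_comp, AdicCompletion.evalOneₐ_comp_algebraMap_eq_mk]

omit [IsDiscreteValuationRing V] [Algebra.Smooth V A] [IsProper h] in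
theorem closedPoint_of_le [IsLocalRing V] (x : X)
    (hx : (IsLocalRing.maximalIdeal V).map (algebraMap V A) ≤ (h x : PrimeSpectrum A).asIdeal) :
    (h ≫ Spec.map (CommRingCat.ofHom (algebraMap V A))) x = IsLocalRing.closedPoint V := by
  rw [Scheme.Hom.comp_apply]
  apply PrimeSpectrum.ext
  rw [Ideal.map_le_iff_le_comap] at hx
  have hp : (Ideal.comap (algebraMap V A) (h x : PrimeSpectrum A).asIdeal).IsPrime :=
    Ideal.IsPrime.comap _ (hK := (h x : PrimeSpectrum A).isPrime)
  exact ((IsLocalRing.maximalIdeal.isMaximal V).eq_of_le hp.ne_top hx).symm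

omit [IsDiscreteValuationRing V] [Algebra.Smooth V A] [IsProper h] in
theorem le_of_closedPoint [IsLocalRing V] (x : X)
    (hx : (h ≫ Spec.map (CommRingCat.ofHom (algebraMap V A))) x = IsLocalRing.closedPoint V) :
    (IsLocalRing.maximalIdeal V).map (algebraMap V A) ≤ (h x : PrimeSpectrum A).asIdeal := by
  rw [Scheme.Hom.comp_apply] at hx
  rw [Ideal.map_le_iff_le_comap]
  exact (congrArg PrimeSpectrum.asIdeal hx).ge

theorem flat_baseChange (H1 : Flat (h ≫ Spec.map (CommRingCat.ofHom (algebraMap V A))))
    (H2 : Flat (pullback.snd h (Spec.map (CommRingCat.ofHom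
          (Ideal.Quotient.mk ((IsLocalRing.maximalIdeal V).map (algebraMap V A))))))) :
    Flat (pullback.snd h (Spec.map (CommRingCat.ofHom
          (algebraMap A (AdicCompletion ((IsLocalRing.maximalIdeal V).map (algebraMap V A)) A))))) := by
  have hN : IsNoetherianRing A := Algebra.FiniteType.isNoetherianRing V A
  have hlft : LocallyOfFiniteType (Spec.map (CommRingCat.ofHom (algebraMap V A))) := by
    rw [HasRingHomProperty.Spec_iff (P := @LocallyOfFiniteType)]
    exact RingHom.finiteType_algebraMap.2 inferInstance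
  have hN' : IsLocallyNoetherian (Spec (CommRingCat.of A)) := inferInstance
  have hN'' : IsLocallyNoetherian (Spec (CommRingCat.of V)) := inferInstance
  have hlfp : LocallyOfFinitePresentation h := LocallyOfFinitePresentation.iff_locallyOfFiniteType.2 inferInstance
  have hlfp' : LocallyOfFinitePresentation (h ≫ Spec.map (CommRingCat.ofHom (algebraMap V A))) :=
    LocallyOfFinitePresentation.iff_locallyOfFiniteType.2 inferInstance
  have hZ : IsClosed ({x : X | (h.stalkMap x).hom.Flat}ᶜ) := (Groth.Agent.S0386.result h).isClosed_compl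
  rw [Flat.iff_flat_stalkMap]
  intro z
  refine Groth.Agent.Flat2D.FlatAtPt.flat_stalkMap_of_isPullback (IsPullback.of_hasPullback _ _) z ?_
  have := fst_notMem ((IsLocalRing.maximalIdeal V).map (algebraMap V A)) h _ hZ ?_ z
  · exact Set.notMem_compl_iff.1 this
  · intro y hy hle
    exact hy (flat_stalkMap_of_special h H2 y (closedPoint_of_le h y hle))

theorem flat_special (H : Flat (pullback.snd h (Spec.map (CommRingCat.ofHom
          (algebraMap A (AdicCompletion ((IsLocalRing.maximalIdeal V).map (algebraMap V A)) A)))))) :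
    Flat (h ≫ Spec.map (CommRingCat.ofHom (algebraMap V A))) := by
  have hN : IsNoetherianRing A := Algebra.FiniteType.isNoetherianRing V A
  have hflat : Flat (Spec.map (CommRingCat.ofHom (algebraMap V A))) := by
    rw [Flat.SpecMap_iff]
    exact RingHom.flat_algebraMap_iff.2 (Algebra.Smooth.flat_of_isNoetherianRing _ _)
  set I := (IsLocalRing.maximalIdeal V).map (algebraMap V A)
  have hflat' : Flat (Spec.map (CommRingCat.ofHom (algebraMap A (AdicCompletion I A)))) := by
    rw [Flat.SpecMap_iff]
    exact RingHom.flat_algebraMap_iff.2 inferInstance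
  rw [Flat.iff_flat_stalkMap]
  intro x
  by_cases hx : (h ≫ Spec.map (CommRingCat.ofHom (algebraMap V A))) x = IsLocalRing.closedPoint V
  swap
  · exact flat_stalkMap_of_ne _ _ hx
  have hle := le_of_closedPoint h x hx
  have hmem : h x ∈ Set.range (Spec.map (CommRingCat.ofHom (Ideal.Quotient.mk I))) := by
    change _ ∈ Set.range (PrimeSpectrum.comap (Ideal.Quotient.mk I))
    rw [range_comap_of_surjective _ _ Ideal.Quotient.mk_surjective, Ideal.mk_ker]
    exact hle
  rw [← evalOne_comp] at hmem
  obtain ⟨y, hy⟩ := hmem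
  rw [Scheme.Hom.comp_apply] at hy
  obtain ⟨z, hz1, -⟩ := Scheme.Pullback.exists_preimage_pullback x _ hy.symm
  have h1 : ((pullback.fst h (Spec.map (CommRingCat.ofHom (algebraMap A (AdicCompletion I A))))).stalkMap z).hom.Flat :=
    Flat.stalkMap _ z
  have h2 : Flat (pullback.fst h (Spec.map (CommRingCat.ofHom (algebraMap A (AdicCompletion I A)))) ≫
      h ≫ Spec.map (CommRingCat.ofHom (algebraMap V A))) := by
    rw [← Category.assoc, pullback.condition, Category.assoc]
    infer_instance
  have h3 := flat_stalkMap_of_comp (pullback.fst h (Spec.map (CommRingCat.ofHom (algebraMap A (AdicCompletion I A)))))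
    (h ≫ Spec.map (CommRingCat.ofHom (algebraMap V A))) z h1 (Flat.stalkMap _ z)
  rwa [hz1] at h3

theorem flat_iff : (Flat (h ≫ Spec.map (CommRingCat.ofHom (algebraMap V A))) ∧
        Flat (pullback.snd h (Spec.map (CommRingCat.ofHom
          (Ideal.Quotient.mk ((IsLocalRing.maximalIdeal V).map (algebraMap V A))))))) ↔
      Flat (pullback.snd h (Spec.map (CommRingCat.ofHom
          (algebraMap A (AdicCompletion ((IsLocalRing.maximalIdeal V).map (algebraMap V A)) A))))) :=
  ⟨fun H => flat_baseChange h H.1 H.2, fun H => ⟨flat_special h H, snd_comp @Flat h _ _ _ (evalOne_comp _) H⟩⟩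

end Main

end K265.FibAdic
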