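import Groth.Agent.FlatMor.K265.FibAdicMain
import Groth.Agent.Smoothlim.SmoothLocusBC
/-!
The smooth case of the comparison between a proper morphism over a smooth algebra over a discrete valuation ring and its
base change to the adic completion.
-/
set_option autoImplicit false
universe u
open CategoryTheory CategoryTheory.Limits AlgebraicGeometry

namespace K265.FibAdic

variable {V : Type u} [CommRing V] [IsDomain V] [IsDiscreteValuationRing V]
    {A : Type u} [CommRing A] [Algebra V A] [Algebra.Smooth V A]
    {X : Scheme.{u}} (h : X ⟶ Spec (.of A)) [IsProper h]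

theorem smooth_baseChange (H1 : Flat (h ≫ Spec.map (CommRingCat.ofHom (algebraMap V A))))
    (H2 : Smooth (pullback.snd h (Spec.map (CommRingCat.ofHom
          (Ideal.Quotient.mk ((IsLocalRing.maximalIdeal V).map (algebraMap V A))))))) :
    Smooth (pullback.snd h (Spec.map (CommRingCat.ofHom
          (algebraMap A (AdicCompletion ((IsLocalRing.maximalIdeal V).map (algebraMap V A)) A))))) := by
  have hN : IsNoetherianRing A := Algebra.FiniteType.isNoetherianRing V A
  have hlft : LocallyOfFiniteType (Spec.map (CommRingCat.ofHom (algebraMap V A))) := by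
    rw [HasRingHomProperty.Spec_iff (P := @LocallyOfFiniteType)]
    exact RingHom.finiteType_algebraMap.2 inferInstance
  have hN' : IsLocallyNoetherian (Spec (CommRingCat.of A)) := inferInstance
  have hN'' : IsLocallyNoetherian (Spec (CommRingCat.of V)) := inferInstance
  have hlfp : LocallyOfFinitePresentation h := LocallyOfFinitePresentation.iff_locallyOfFiniteType.2 inferInstance
  have hlfp' : LocallyOfFinitePresentation (h ≫ Spec.map (CommRingCat.ofHom (algebraMap V A))) :=
    LocallyOfFinitePresentation.iff_locallyOfFiniteType.2 inferInstance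
  have hZ : IsClosed ((h.smoothLocus : Set X)ᶜ) := h.smoothLocus.2.isClosed_compl
  have H3 := H2
  have hF : Flat (pullback.snd h (Spec.map (CommRingCat.ofHom
          (Ideal.Quotient.mk ((IsLocalRing.maximalIdeal V).map (algebraMap V A)))))) := inferInstance
  rw [← Scheme.Hom.smoothLocus_eq_top_iff, eq_top_iff]
  rintro z -
  have h1 : pullback.fst h (Spec.map (CommRingCat.ofHom (algebraMap A (AdicCompletion
      ((IsLocalRing.maximalIdeal V).map (algebraMap V A)) A)))) z ∈ h.smoothLocus := by
    have := fst_notMem ((IsLocalRing.maximalIdeal V).map (algebraMap V A)) h _ hZ ?_ z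
    · exact Set.notMem_compl_iff.1 this
    · intro y hy hle
      have hmem : h y ∈ Set.range (Spec.map (CommRingCat.ofHom
          (Ideal.Quotient.mk ((IsLocalRing.maximalIdeal V).map (algebraMap V A))))) := by
        change _ ∈ Set.range (PrimeSpectrum.comap (Ideal.Quotient.mk ((IsLocalRing.maximalIdeal V).map (algebraMap V A))))
        rw [range_comap_of_surjective _ _ Ideal.Quotient.mk_surjective, Ideal.mk_ker]
        exact hle
      obtain ⟨t, ht⟩ := hmem
      obtain ⟨y', hy', -⟩ := Scheme.Pullback.exists_preimage_pullback y _ ht.symm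
      have hf : (h.stalkMap y).hom.Flat := flat_stalkMap_of_special h hF y (closedPoint_of_le h y hle)
      have := (Groth.Agent.Smoothlim.SmoothLocusBC.mem_smoothLocus_iff_of_isPullback (IsPullback.of_hasPullback h
        (Spec.map (CommRingCat.ofHom (Ideal.Quotient.mk ((IsLocalRing.maximalIdeal V).map (algebraMap V A)))))) y'
        (Or.inl (by rw [hy']; exact hf))).1 (by
          rw [Scheme.Hom.smoothLocus_eq_top]; trivial)
      rw [hy'] at this
      exact hy this
  have hf := Groth.Agent.Smoothlim.SmoothLocusBC.flat_stalkMap_of_mem_smoothLocus h1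
  exact (Groth.Agent.Smoothlim.SmoothLocusBC.mem_smoothLocus_iff_of_isPullback (IsPullback.of_hasPullback h _) z (Or.inl hf)).2 h1

theorem smooth_iff : (Flat (h ≫ Spec.map (CommRingCat.ofHom (algebraMap V A))) ∧
        Smooth (pullback.snd h (Spec.map (CommRingCat.ofHom
          (Ideal.Quotient.mk ((IsLocalRing.maximalIdeal V).map (algebraMap V A))))))) ↔
      Smooth (pullback.snd h (Spec.map (CommRingCat.ofHom
          (algebraMap A (AdicCompletion ((IsLocalRing.maximalIdeal V).map (algebraMap V A)) A))))) :=
  ⟨fun H => smooth_baseChange h H.1 H.2, fun H => ⟨flat_special h inferInstance,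
    snd_comp @Smooth h _ _ _ (evalOne_comp _) H⟩⟩

end K265.FibAdic
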