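import Mathlib.Algebra.TrivSqZeroExt.Basic
import Mathlib.RingTheory.Flat.Stability
import Mathlib.RingTheory.FinitePresentation
import Mathlib.RingTheory.FiniteType
import Mathlib.LinearAlgebra.TensorProduct.Prod
import Mathlib.RingTheory.Finiteness.Prod
/-!
Square-zero extensions `P ⊕ M` as a device to deduce module statements about flatness from algebra statements.
-/
set_option autoImplicit false
universe u
open scoped TensorProduct

namespace K265.SqZero

/-- From a finitely generated module `M` over an `A`-algebra `B` of finite type to an `A`-algebra `C` of finite type that is,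
as an `A`-module, `P × M` with `P` a polynomial ring. -/
theorem exists_algebra (A : Type u) [CommRing A] (B : Type u) [CommRing B] [Algebra A B]
    [Algebra.FiniteType A B] (M : Type u) [AddCommGroup M] [Module A M] [Module B M] [IsScalarTower A B M]
    [Module.Finite B M] : ∃ (n : ℕ) (C : Type u) (_ : CommRing C) (_ : Algebra A C),
      Algebra.FiniteType A C ∧ Nonempty (C ≃ₗ[A] (MvPolynomial (Fin n) A × M)) := by
  obtain ⟨n, f, hf⟩ := Algebra.FiniteType.iff_quotient_mvPolynomial''.1 (inferInstance : Algebra.FiniteType A B)
  let P := MvPolynomial (Fin n) A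
  let _ : Module P M := Module.compHom M f.toRingHom
  have hsmul : ∀ (p : P) (m : M), p • m = f p • m := fun _ _ => rfl
  have hT : IsScalarTower A P M := ⟨fun a p m => by
    rw [hsmul, hsmul, map_smul, smul_assoc]⟩
  let _ : Algebra P B := f.toAlgebra
  have : IsScalarTower P B M := ⟨fun p b m => by
    rw [hsmul, Algebra.smul_def, mul_smul]; rfl⟩
  have : Module.Finite P B := Module.Finite.of_surjective (Algebra.linearMap P B) hf
  have hfin : Module.Finite P M := Module.Finite.trans B M
  let _ : Module Pᵐᵒᵖ M := Module.compHom M ((RingHom.id P).fromOpposite mul_comm)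
  have : IsCentralScalar P M := ⟨fun _ _ => rfl⟩
  have : IsScalarTower A Pᵐᵒᵖ M := inferInstance
  let C := TrivSqZeroExt P M
  have : Module.Finite P C := inferInstanceAs (Module.Finite P (P × M))
  have : IsScalarTower A P C := inferInstance
  refine ⟨n, C, inferInstance, inferInstance, ?_, ?_⟩
  · have : Algebra.FiniteType P C := inferInstance
    exact Algebra.FiniteType.trans (inferInstance : Algebra.FiniteType A P) this
  · exact ⟨{ toFun := fun c => (c.fst, c.snd), invFun := fun x => (show C from x),
             map_add' := fun _ _ => rfl, map_smul' := fun _ _ => rfl,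
             left_inv := fun c => rfl, right_inv := fun x => rfl }⟩

theorem flat_prod {R M M' : Type u} [CommRing R] [AddCommGroup M] [Module R M] [AddCommGroup M'] [Module R M']
    [Module.Flat R M] [Module.Flat R M'] : Module.Flat R (M × M') := by
  rw [Module.Flat.iff_rTensor_preserves_injective_linearMap]
  intro N P _ _ _ _ f hf
  have h1 : (TensorProduct.prodRight R R P M M').toLinearMap ∘ₗ (f.rTensor (M × M')) =
      ((f.rTensor M).prodMap (f.rTensor M')) ∘ₗ (TensorProduct.prodRight R R N M M').toLinearMap := by
    apply TensorProduct.ext'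
    intro x y
    rfl
  have h2 : Function.Injective ((TensorProduct.prodRight R R P M M').toLinearMap ∘ₗ (f.rTensor (M × M'))) := by
    rw [h1]
    have h3 : Function.Injective ((f.rTensor M).prodMap (f.rTensor M')) :=
      Prod.map_injective.mpr ⟨Module.Flat.rTensor_preserves_injective_linearMap f hf,
        Module.Flat.rTensor_preserves_injective_linearMap f hf⟩
    exact h3.comp (TensorProduct.prodRight R R N M M').injective
  exact Function.Injective.of_comp (f := (TensorProduct.prodRight R R P M M')) h2

theorem flat_prod_iff {A M N : Type u} [CommRing A] [AddCommGroup M] [Module A M] [AddCommGroup N] [Module A N] :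
    Module.Flat A (M × N) ↔ Module.Flat A M ∧ Module.Flat A N := by
  refine ⟨fun h => ⟨?_, ?_⟩, fun h => ?_⟩
  · exact Module.Flat.of_retract (LinearMap.inl A M N) (LinearMap.fst A M N) (by ext; rfl)
  · exact Module.Flat.of_retract (LinearMap.inr A M N) (LinearMap.snd A M N) (by ext; rfl)
  · have := h.1
    have := h.2
    exact flat_prod

/-- Base change of `P × M`, `P` flat. -/
theorem flat_baseChange_iff {A R P M C : Type u} [CommRing A] [CommRing R] [Algebra A R] [AddCommGroup P] [Module A P]
    [Module.Flat A P] [AddCommGroup M] [Module A M] [AddCommGroup C] [Module A C] (e : C ≃ₗ[A] (P × M)) :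
    Module.Flat R (R ⊗[A] C) ↔ Module.Flat R (R ⊗[A] M) := by
  have e1 : (R ⊗[A] C) ≃ₗ[R] ((R ⊗[A] P) × (R ⊗[A] M)) :=
    (LinearEquiv.baseChange A R C (P × M) e).trans (TensorProduct.prodRight A R R P M)
  rw [Module.Flat.equiv_iff e1, flat_prod_iff]
  exact ⟨fun h => h.2, fun h => ⟨inferInstance, h⟩⟩

end K265.SqZero
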