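import Groth.Agent.S2562
import Groth.Agent.FlatMor.K265.SqZero
import Mathlib.AlgebraicGeometry.Morphisms.FinitePresentation
import Mathlib.AlgebraicGeometry.Noetherian
/-!
Valuative criterion of flatness over a reduced noetherian ring, for finitely generated modules over algebras of finite type.
-/
set_option autoImplicit false
universe u
open scoped TensorProduct
open CategoryTheory CategoryTheory.Limits AlgebraicGeometry

namespace K265.FlatVal

theorem flat_pullback_snd {A C V : Type u} [CommRing A] [CommRing C] [CommRing V] [Algebra A C] [Algebra A V]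
    (h : Module.Flat V (V ⊗[A] C)) : Flat (pullback.snd (Spec.map (CommRingCat.ofHom (algebraMap A C)))
      (Spec.map (CommRingCat.ofHom (algebraMap A V)))) := by
  have sq := isPullback_SpecMap_of_isPushout _ _ _ _ (CommRingCat.isPushout_tensorProduct A V C)
  have h1 : Flat (Spec.map (CommRingCat.ofHom (algebraMap V (V ⊗[A] C)))) := by
    rw [Flat.SpecMap_iff]
    exact RingHom.flat_algebraMap_iff.2 h
  have sq' : IsPullback (pullback.snd (Spec.map (CommRingCat.ofHom (algebraMap A C)))
      (Spec.map (CommRingCat.ofHom (algebraMap A V)))) (pullback.fst _ _)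
      (Spec.map (CommRingCat.ofHom (algebraMap A V))) (Spec.map (CommRingCat.ofHom (algebraMap A C))) :=
    (IsPullback.of_hasPullback _ _).flip
  have e : (sq'.isoIsPullback _ _ sq).hom ≫ Spec.map (CommRingCat.ofHom (algebraMap V (V ⊗[A] C))) =
      pullback.snd (Spec.map (CommRingCat.ofHom (algebraMap A C)))
      (Spec.map (CommRingCat.ofHom (algebraMap A V))) := sq'.isoIsPullback_hom_fst _ _ sq
  rw [← e]
  infer_instance

/-- algebra case -/
theorem flat_algebra (A C : Type u) [CommRing A] [CommRing C] [Algebra A C] [IsNoetherianRing A] [_root_.IsReduced A]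
    [Algebra.FiniteType A C]
    (H : ∀ (V : Type u) [CommRing V] [IsDomain V] [IsDiscreteValuationRing V] [Algebra A V],
      Module.Flat V (V ⊗[A] C)) : Module.Flat A C := by
  have hfp : Algebra.FinitePresentation A C := Algebra.FinitePresentation.of_finiteType.mp inferInstance
  let f : Spec (CommRingCat.of C) ⟶ Spec (CommRingCat.of A) := Spec.map (CommRingCat.ofHom (algebraMap A C))
  have hf : LocallyOfFinitePresentation f := by
    rw [HasRingHomProperty.Spec_iff (P := @LocallyOfFinitePresentation)]
    exact RingHom.finitePresentation_algebraMap.2 hfp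
  have hflat : Flat f := by
    rw [Flat.iff_flat_stalkMap]
    intro x
    have h1 : IsNoetherianRing ((Spec (CommRingCat.of A)).presheaf.stalk (f.base x)) := by
      have : IsLocallyNoetherian (Spec (CommRingCat.of A)) := inferInstance
      infer_instance
    have h2 : _root_.IsReduced ((Spec (CommRingCat.of A)).presheaf.stalk (f.base x)) := by
      have : AlgebraicGeometry.IsReduced (Spec (CommRingCat.of A)) := inferInstance
      infer_instance
    refine (Groth.Agent.S2562.result f x).2 ?_
    intro A' _ _ _ φ _ x' _ _
    obtain ⟨ψ, hψ⟩ := Spec.map_surjective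
      (Spec.map (CommRingCat.ofHom φ) ≫ (Spec (CommRingCat.of A)).fromSpecStalk (f.base x))
    let _ : Algebra A A' := ψ.hom.toAlgebra
    have h3 : Flat (pullback.snd f (Spec.map (CommRingCat.ofHom φ) ≫
        (Spec (CommRingCat.of A)).fromSpecStalk (f.base x))) := by
      rw [← hψ]
      exact flat_pullback_snd (H A')
    exact Flat.stalkMap _ x'
  rw [Flat.SpecMap_iff] at hflat
  exact RingHom.flat_algebraMap_iff.1 hflat

end K265.FlatVal
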