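import Groth.Agent.Flat2C.GlueTwo
import Groth.Agent.FlatMor.K264.QDomBlow
import Groth.Agent.FlatMor.K265.Sect
import Mathlib.AlgebraicGeometry.Morphisms.ClosedImmersion
/-!
Gluing two schemes which quasi-dominate one another.
-/
set_option autoImplicit false
universe u
open CategoryTheory CategoryTheory.Limits AlgebraicGeometry

namespace K265.Glue

theorem ker_ideal_eq_bot {U X Y : Scheme.{u}} (j : U ⟶ X) (o : X ⟶ Y) [IsOpenImmersion o]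
    [IsSchemeTheoreticallyDominant j] [QuasiCompact j] [QuasiCompact (j ≫ o)] (V : X.affineOpens) :
    (j ≫ o).ker.ideal ⟨o ''ᵁ V, V.2.image_of_isOpenImmersion o⟩ = ⊥ := by
  rw [Scheme.Hom.ker_apply]
  rw [← RingHom.injective_iff_ker_eq_bot, Scheme.Hom.comp_app]
  have h1 : Function.Injective (j.app (o ⁻¹ᵁ (o ''ᵁ V.1))) := j.app_injective _
  have h2 : Function.Injective (o.app (o ''ᵁ V.1)) := (ConcreteCategory.bijective_of_isIso (o.app (o ''ᵁ V.1))).1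
  exact h1.comp h2

theorem dominant_of_two {U X₁ X₂ Y : Scheme.{u}} (j₁ : U ⟶ X₁) (j₂ : U ⟶ X₂) (o₁ : X₁ ⟶ Y) (o₂ : X₂ ⟶ Y)
    [IsOpenImmersion o₁] [IsOpenImmersion o₂] (h : j₁ ≫ o₁ = j₂ ≫ o₂)
    (hcov : o₁.opensRange ⊔ o₂.opensRange = ⊤)
    [IsSchemeTheoreticallyDominant j₁] [IsSchemeTheoreticallyDominant j₂] [QuasiCompact j₁] [QuasiCompact j₂]
    [QuasiCompact (j₁ ≫ o₁)] : IsSchemeTheoreticallyDominant (j₁ ≫ o₁) := by
  constructor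
  let V : X₁.affineOpens ⊕ X₂.affineOpens → Y.affineOpens := fun V => match V with
    | .inl V => ⟨o₁ ''ᵁ V, V.2.image_of_isOpenImmersion o₁⟩
    | .inr V => ⟨o₂ ''ᵁ V, V.2.image_of_isOpenImmersion o₂⟩
  refine Scheme.IdealSheafData.ext_of_iSup_eq_top V ?_ ?_
  · rw [eq_top_iff]
    intro y _
    have hy : y ∈ o₁.opensRange ⊔ o₂.opensRange := by rw [hcov]; trivial
    rcases hy with ⟨x, rfl⟩ | ⟨x, rfl⟩
    · obtain ⟨W, hW, hx, -⟩ := exists_isAffineOpen_mem_and_subset (X := X₁) (x := x) (U := ⊤) trivial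
      exact TopologicalSpace.Opens.mem_iSup.2 ⟨.inl ⟨W, hW⟩, ⟨x, hx, rfl⟩⟩
    · obtain ⟨W, hW, hx, -⟩ := exists_isAffineOpen_mem_and_subset (X := X₂) (x := x) (U := ⊤) trivial
      exact TopologicalSpace.Opens.mem_iSup.2 ⟨.inr ⟨W, hW⟩, ⟨x, hx, rfl⟩⟩
  · rintro (V | V)
    · exact ker_ideal_eq_bot j₁ o₁ V
    · have : QuasiCompact (j₂ ≫ o₂) := by rwa [← h]
      simp only [h]
      exact ker_ideal_eq_bot j₂ o₂ V

open K264.QDomBlow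

/-- Two closed immersions with the same schematically dense part coincide. -/
theorem exists_iso_of_dominant {U P W₁ W₂ : Scheme.{u}} (k₁ : U ⟶ W₁) (k₂ : U ⟶ W₂) [IsSchemeTheoreticallyDominant k₁]
    [IsSchemeTheoreticallyDominant k₂] (c₁ : W₁ ⟶ P) (c₂ : W₂ ⟶ P) [IsClosedImmersion c₁] [IsClosedImmersion c₂]
    (h : k₁ ≫ c₁ = k₂ ≫ c₂) : ∃ e : W₁ ≅ W₂, e.hom ≫ c₂ = c₁ := by
  obtain ⟨a, ha⟩ := exists_factor k₁ c₁ c₂ k₂ h.symm
  obtain ⟨b, hb⟩ := exists_factor k₂ c₂ c₁ k₁ h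
  refine ⟨⟨a, b, ?_, ?_⟩, ha⟩
  · rw [← cancel_mono c₁, Category.assoc, hb, ha, Category.id_comp]
  · rw [← cancel_mono c₂, Category.assoc, ha, hb, Category.id_comp]

theorem main {S X₁ X₂ U : Scheme.{u}} [IsNoetherian S]
    (p₁ : X₁ ⟶ S) (p₂ : X₂ ⟶ S) [IsSeparated p₁] [QuasiCompact p₁] [LocallyOfFiniteType p₁]
    [IsSeparated p₂] [QuasiCompact p₂] [LocallyOfFiniteType p₂]
    (j₁ : U ⟶ X₁) (j₂ : U ⟶ X₂) [IsOpenImmersion j₁] [IsOpenImmersion j₂]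
    [IsSchemeTheoreticallyDominant j₁] [IsSchemeTheoreticallyDominant j₂]
    (W₁ : X₁.Opens) (φ : (↑W₁ : Scheme.{u}) ⟶ X₂)
    (hφ : W₁.ι ≫ p₁ = φ ≫ p₂)
    (hφc : IsClosed (Set.range (fun w => (Limits.pullback.lift W₁.ι φ hφ) w)))
    (k₁ : U ⟶ ↑W₁) (hk₁ : k₁ ≫ W₁.ι = j₁) (hk₁' : k₁ ≫ φ = j₂)
    (W₂ : X₂.Opens) (ψ : (↑W₂ : Scheme.{u}) ⟶ X₁)
    (hψ : W₂.ι ≫ p₂ = ψ ≫ p₁)
    (hψc : IsClosed (Set.range (fun w => (Limits.pullback.lift W₂.ι ψ hψ) w)))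
    (k₂ : U ⟶ ↑W₂) (hk₂ : k₂ ≫ W₂.ι = j₂) (hk₂' : k₂ ≫ ψ = j₁) :
    ∃ (Y : Scheme.{u}) (q : Y ⟶ S) (i₁ : X₁ ⟶ Y) (i₂ : X₂ ⟶ Y), IsSeparated q ∧ QuasiCompact q ∧
      LocallyOfFiniteType q ∧ IsOpenImmersion i₁ ∧ IsOpenImmersion i₂ ∧ i₁ ≫ q = p₁ ∧ i₂ ≫ q = p₂ ∧
      j₁ ≫ i₁ = j₂ ≫ i₂ ∧ QuasiCompact (j₁ ≫ i₁) ∧ IsSchemeTheoreticallyDominant (j₁ ≫ i₁) := by
  have hl₁ : IsLocallyNoetherian X₁ := LocallyOfFiniteType.isLocallyNoetherian p₁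
  have hl₂ : IsLocallyNoetherian X₂ := LocallyOfFiniteType.isLocallyNoetherian p₂
  have hj₁q : QuasiCompact j₁ := inferInstance
  have hj₂q : QuasiCompact j₂ := inferInstance
  have hd₁ : IsSchemeTheoreticallyDominant k₁ := dominant_of_comp_ι W₁ k₁ j₁ hk₁
  have hd₂ : IsSchemeTheoreticallyDominant k₂ := dominant_of_comp_ι W₂ k₂ j₂ hk₂
  have i₁ : IsImmersion (pullback.lift W₁.ι φ hφ) := isImmersion_of_fst _ _ _ _ _
  have hc₁ : IsClosedImmersion (pullback.lift W₁.ι φ hφ) := .of_isPreimmersion _ hφc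
  have i₂ : IsImmersion (pullback.lift W₂.ι ψ hψ) := isImmersion_of_fst _ _ _ _ _
  have hc₂ : IsClosedImmersion (pullback.lift W₂.ι ψ hψ) := .of_isPreimmersion _ hψc
  obtain ⟨e, he⟩ := exists_iso_of_dominant k₁ k₂ (pullback.lift W₁.ι φ hφ)
    (pullback.lift W₂.ι ψ hψ ≫ (pullbackSymmetry p₂ p₁).hom) (by
      apply pullback.hom_ext
      · rw [Category.assoc, Category.assoc, Category.assoc, pullbackSymmetry_hom_comp_fst, pullback.lift_fst,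
          pullback.lift_snd, hk₁, hk₂']
      · rw [Category.assoc, Category.assoc, Category.assoc, pullbackSymmetry_hom_comp_snd, pullback.lift_fst,
          pullback.lift_snd, hk₁', hk₂])
  have he1 : e.hom ≫ ψ = W₁.ι := by
    have := congrArg (· ≫ pullback.fst p₁ p₂) he
    rwa [Category.assoc, Category.assoc, pullbackSymmetry_hom_comp_fst, pullback.lift_fst, pullback.lift_snd] at this
  have he2 : e.hom ≫ W₂.ι = φ := by
    have := congrArg (· ≫ pullback.snd p₁ p₂) he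
    rwa [Category.assoc, Category.assoc, pullbackSymmetry_hom_comp_snd, pullback.lift_fst, pullback.lift_snd] at this
  have hφo : IsOpenImmersion φ := by rw [← he2]; infer_instance
  obtain ⟨Y, q, o₁, o₂, ho₁, ho₂, hq₁, hq₂, hpb, hpo, hcov, hs, hft, hqc⟩ :=
    Groth.Agent.Flat2C.GlueTwo.exists_glue W₁.ι φ p₁ p₂ hφ hc₁
  have hlY : IsLocallyNoetherian Y := LocallyOfFiniteType.isLocallyNoetherian q
  have hjo : j₁ ≫ o₁ = j₂ ≫ o₂ := by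
    rw [← hk₁, Category.assoc, hpb.w, ← Category.assoc, hk₁']
  have hqc' : QuasiCompact (j₁ ≫ o₁) := inferInstance
  exact ⟨Y, q, o₁, o₂, hs, hqc, hft, ho₁, ho₂, hq₁, hq₂, hjo, hqc', dominant_of_two j₁ j₂ o₁ o₂ hjo hcov⟩

end K265.Glue
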