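import Mathlib.AlgebraicGeometry.Morphisms.Flat
import Mathlib.AlgebraicGeometry.Morphisms.QuasiCompact
import Mathlib.AlgebraicGeometry.Morphisms.UnderlyingMap
/-!
Retracts of flat ring maps, morphisms with a section, quasi-compactness through a surjection.
-/
set_option autoImplicit false
universe u
open CategoryTheory CategoryTheory.Limits AlgebraicGeometry

namespace K265.Retract

/-- If `φ ≫ i` is flat and `i` has a left inverse up to an isomorphism then `φ` is flat. -/
theorem flat_of_retract {A B C D : CommRingCat.{u}} (φ : A ⟶ B) (i : B ⟶ C) (r : C ⟶ D)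
    [IsIso (i ≫ r)] (h : (φ ≫ i).hom.Flat) : φ.hom.Flat := by
  algebraize [φ.hom, (φ ≫ i).hom]
  have hF : Module.Flat A C := h
  let i' : B →ₗ[A] C :=
    { toFun := i.hom
      map_add' := map_add _
      map_smul' := fun a b => by
        simp only [Algebra.smul_def, map_mul, RingHom.id_apply]
        rfl }
  let r' : C →ₗ[A] B :=
    { toFun := (r ≫ inv (i ≫ r)).hom
      map_add' := map_add _
      map_smul' := fun a b => by
        simp only [Algebra.smul_def, map_mul, RingHom.id_apply]
        congr 1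
        change (inv (i ≫ r)).hom ((i ≫ r).hom (φ.hom a)) = φ.hom a
        exact ConcreteCategory.congr_hom (IsIso.hom_inv_id (i ≫ r)) (φ.hom a) }
  have hir : r'.comp i' = LinearMap.id := by
    ext b
    change (inv (i ≫ r)).hom ((i ≫ r).hom b) = b
    exact ConcreteCategory.congr_hom (IsIso.hom_inv_id (i ≫ r)) b
  exact Module.Flat.of_retract i' r' hir

/-- If `f` is surjective and `f ≫ g` is quasi-compact then `g` is quasi-compact. -/
theorem quasiCompact_of_surjective_comp {X Y Z : Scheme.{u}} (f : X ⟶ Y) (g : Y ⟶ Z) [Surjective f]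
    [QuasiCompact (f ≫ g)] : QuasiCompact g := by
  refine ⟨fun U hU hc => ?_⟩
  have h1 := (f ≫ g).isCompact_preimage (U := ⟨U, hU⟩) hc
  have h2 := h1.image f.continuous
  have h3 : f '' ((((f ≫ g) ⁻¹ᵁ ⟨U, hU⟩ : X.Opens)) : Set X) = g ⁻¹' U :=
    Set.image_preimage_eq (g ⁻¹' U) f.surjective
  rw [h3] at h2
  exact h2

/-- If `p : P ⟶ X` has a section and `p ≫ f` is flat then `f` is flat. -/
theorem flat_of_section {P X S : Scheme.{u}} (p : P ⟶ X) (f : X ⟶ S) (s : X ⟶ P) (hs : s ≫ p = 𝟙 X)
    (h : Flat (p ≫ f)) : Flat f := by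
  rw [Flat.iff_flat_stalkMap] at h ⊢
  intro x
  have key : (f.stalkMap (p (s x))).hom.Flat := by
    have h1 := h (s x)
    rw [Scheme.Hom.stalkMap_comp] at h1
    have h2 : IsIso ((s ≫ p).stalkMap x) := by
      rw [hs]; infer_instance
    rw [Scheme.Hom.stalkMap_comp] at h2
    exact @flat_of_retract _ _ _ _ (f.stalkMap (p (s x))) (p.stalkMap (s x)) (s.stalkMap x) h2 h1
  have hx : p (s x) = x := by
    rw [← Scheme.Hom.comp_apply, hs]; rfl
  rw [hx] at key
  exact key

end K265.Retract
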