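import Groth.Agent.Ega2.RelAmpComp
import Groth.Agent.Fdesc.LocGenGlue
import Groth.Agent.CalgB.AmpleRel
/-!
Trivialisations along a morphism: sections of an invertible module whose pullback along a morphism is an isomorphism.
-/
set_option autoImplicit false
universe u
open CategoryTheory CategoryTheory.Limits AlgebraicGeometry
open Groth.Agent.Fdesc.LocGen Groth.Agent.Ega2.Nv Groth.Agent.Ega2.RelAmp

namespace K265.YTriv

variable {X Y Z : Scheme.{u}}

theorem genLocus_eq_nv {L : X.Modules} (s : Coh.structureModule X ⟶ L) : CohB1.genLocus L s = nv L (sec s ⊤) := by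
  apply le_antisymm
  · rw [le_nv_iff _ _ le_top, res_sec, ← le_genLocus_iff]
  · rw [le_genLocus_iff]
    have := (le_nv_iff _ (sec s ⊤) (V := nv L (sec s ⊤)) le_top).1 le_rfl
    rwa [res_sec] at this

theorem isIso_map_iff_isGen (f : X ⟶ Y) {M : Y.Modules} (s : Coh.structureModule Y ⟶ M) :
    IsIso ((Scheme.Modules.pullback f).map s) ↔ IsGen (pullTop f (sec s ⊤)) := by
  have h1 : IsGen (pullTop f (one (X := Y) ⊤)) := (isGen_one _).pullTop f
  let u : Coh.structureModule X ⟶ (Scheme.Modules.pullback f).obj (Coh.structureModule Y) := homOf (pullTop f (one ⊤))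
  have hu : IsIso u := by
    rw [isIso_iff_isGen, sec_homOf]
    simpa using h1
  have h2 : sec (u ≫ (Scheme.Modules.pullback f).map s) ⊤ = pullTop f (sec s ⊤) := by
    rw [sec_comp, sec_homOf]
    have := pullback_map_pullSec f s (U := ⊤) (one ⊤)
    rw [res_refl]
    exact this
  rw [← h2, ← isIso_iff_isGen]
  exact ⟨fun h => inferInstance, fun h => IsIso.of_isIso_comp_left u _⟩

/-- `LocGen` on the top open for invertible modules -/
theorem locGen_top {L : X.Modules} (hL : PicF.IsInvertible L) : LocGen L ⊤ := by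
  intro x _
  obtain ⟨U, e, hx, he⟩ := (isInvertible_iff L).1 hL x
  exact ⟨U, e, hx, le_top, he⟩

theorem isIso_map_iff (f : X ⟶ Y) {M : Y.Modules} (hM : PicF.IsInvertible M) (s : Coh.structureModule Y ⟶ M) :
    IsIso ((Scheme.Modules.pullback f).map s) ↔ f ⁻¹ᵁ (CohB1.genLocus M s) = ⊤ := by
  rw [isIso_map_iff_isGen, genLocus_eq_nv, ← nv_pullSec f (locGen_top hM) (sec s ⊤), eq_top_iff]
  have := le_nv_iff _ (pullSec f (sec s ⊤)) (V := ⊤) le_rfl
  have key : IsGen (pullTop f (sec s ⊤)) ↔ IsGen (res _ (le_refl (⊤ : X.Opens)) (pullTop f (sec s ⊤))) := by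
    rw [res_refl]
  exact key.trans this.symm

theorem genLocus_pullHom (f : X ⟶ Y) {M : Y.Modules} (hM : PicF.IsInvertible M) (s : Coh.structureModule Y ⟶ M) :
    CohB1.genLocus _ (pullHom f s) = f ⁻¹ᵁ (CohB1.genLocus M s) := by
  rw [genLocus_eq_nv, genLocus_eq_nv, ← nv_pullSec f (locGen_top hM) (sec s ⊤)]
  exact congrArg _ (sec_pullHom f s ⊤)

/-- The property of `ε` being a trivialisation along `f` is inherited by tensor products. -/
theorem isIso_map_tmulHom (f : X ⟶ Y) {L M : Y.Modules} (hL : PicF.IsInvertible L) (hM : PicF.IsInvertible M)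
    (s : Coh.structureModule Y ⟶ L) (t : Coh.structureModule Y ⟶ M)
    (hs : IsIso ((Scheme.Modules.pullback f).map s)) (ht : IsIso ((Scheme.Modules.pullback f).map t)) :
    IsIso ((Scheme.Modules.pullback f).map (tmulHom s t)) := by
  rw [isIso_map_iff f hL] at hs
  rw [isIso_map_iff f hM] at ht
  rw [isIso_map_iff f (isInvertible_tensorMod hL hM), genLocus_tmulHom hL hM, Scheme.Hom.preimage_inf, hs, ht,
    inf_idem]

theorem isIso_map_powHom (f : X ⟶ Y) {L : Y.Modules} (hL : PicF.IsInvertible L) (n : ℕ)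
    (s : Coh.structureModule Y ⟶ L) (hs : IsIso ((Scheme.Modules.pullback f).map s)) :
    IsIso ((Scheme.Modules.pullback f).map (powHom s n)) := by
  obtain _ | n := n
  · have : IsIso (powHom s 0) := by
      rw [isIso_iff_isGen, sec_powHom]
      exact isGen_one _
    infer_instance
  · rw [isIso_map_iff f hL] at hs
    rw [isIso_map_iff f (isInvertible_tensorPow hL (n + 1)), genLocus_powHom hL, hs]

theorem isIso_map_pullHom (f : X ⟶ Y) (g : Y ⟶ Z) {M : Z.Modules} (hM : PicF.IsInvertible M)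
    (s : Coh.structureModule Z ⟶ M) (hs : IsIso ((Scheme.Modules.pullback (f ≫ g)).map s)) :
    IsIso ((Scheme.Modules.pullback f).map (pullHom g s)) := by
  rw [isIso_map_iff _ hM] at hs
  rw [isIso_map_iff f (isInvertible_pullback g hM), genLocus_pullHom g hM, ← hs]
  rfl

/-- Composition of relatively ample modules with trivialisations. -/
theorem exists_comp {Y X X₁ X₂ : Scheme.{u}} [CompactSpace X] (f₁ : Y ⟶ X₁) (g₁ : X₁ ⟶ X) [IsProper g₁] (f₂ : Y ⟶ X₂)
    (g₂ : X₂ ⟶ X₁) [IsProper g₂] (h : f₂ ≫ g₂ = f₁) {L₁ : X₁.Modules} (ε₁ : Coh.structureModule X₁ ⟶ L₁)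
    (h₁ : RelAmple.IsRelAmple g₁ L₁) (h₁' : IsIso ((Scheme.Modules.pullback f₁).map ε₁))
    {L₂ : X₂.Modules} (ε₂ : Coh.structureModule X₂ ⟶ L₂) (h₂ : RelAmple.IsRelAmple g₂ L₂)
    (h₂' : IsIso ((Scheme.Modules.pullback f₂).map ε₂)) :
    ∃ (L : X₂.Modules) (ε : Coh.structureModule X₂ ⟶ L),
      RelAmple.IsRelAmple (g₂ ≫ g₁) L ∧ IsIso ((Scheme.Modules.pullback f₂).map ε) := by
  obtain ⟨n, -, hn⟩ := relAmple_comp g₂ g₁ L₂ L₁ h₂ h₁
  have i₁ : PicF.IsInvertible L₁ := Groth.Agent.CalgB.AmpleRel.isInvertible_of_isRelAmple h₁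
  have i₂ : PicF.IsInvertible L₂ := Groth.Agent.CalgB.AmpleRel.isInvertible_of_isRelAmple h₂
  refine ⟨_, tmulHom ε₂ (pullHom g₂ (powHom ε₁ n)), hn n le_rfl, ?_⟩
  have i₃ := isInvertible_tensorPow i₁ n
  refine isIso_map_tmulHom f₂ i₂ (isInvertible_pullback g₂ i₃) _ _ h₂' (isIso_map_pullHom f₂ g₂ i₃ _ ?_)
  rw [h]
  exact isIso_map_powHom f₁ i₁ n _ h₁'

end K265.YTriv
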